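import Groth.Agent.ZClosLib.Points
import Groth.Agent.AssPts.Basic
import Groth.Agent.FlatOver.Basic
import Groth.Agent.Depth.Basic
import Groth.Agent.FlatCodim.Basic
import Groth.Agent.TildeCompl.Basic
import Groth.Agent.QCohBase.CohProps
import Groth.Agent.QCohBase.Qcqs

/-!
# Purity and closedness at a point in terms of depth
-/

set_option autoImplicit false
set_option linter.style.haveILetI false

noncomputable section

universe u

open CategoryTheory CategoryTheory.Limits AlgebraicGeometry TopologicalSpace Opposite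
open Groth.Agent.QCohBase Groth.Agent.AssPts

namespace Groth.Agent.ZClosLib

variable {X : Scheme.{u}}

/-- Specialization passes to primes. -/
lemma prime_le_of_specializes {W : X.Opens} (hW : IsAffineOpen W) {y x : X} (hy : y ∈ W) (hx : x ∈ W)
    (h : y ⤳ x) : (hW.primeIdealOf ⟨y, hy⟩).asIdeal ≤ (hW.primeIdealOf ⟨x, hx⟩).asIdeal :=
  (AssPts.specializes_iff hW x hx hy).1 h

section Stalks

variable [IsLocallyNoetherian X] (F : X.Modules)

lemma finite_stalk (hF : Coh.IsCoh F) (x : X) :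
    Module.Finite (X.presheaf.stalk x) (F.presheaf.stalk x) := by
  haveI := hF.1
  obtain ⟨_, ⟨(U : X.Opens), hU, rfl⟩, hxU, -⟩ :=
    X.isBasis_affineOpens.exists_subset_of_mem_open (Set.mem_univ x) isOpen_univ
  letI := FlatOver.germModule F x hxU
  letI := (X.presheaf.germ U x hxU).hom.toAlgebra
  haveI : IsLocalization.AtPrime (X.presheaf.stalk x) (hU.primeIdealOf ⟨x, hxU⟩).asIdeal :=
    hU.isLocalization_stalk ⟨x, hxU⟩
  haveI : IsScalarTower Γ(X, U) (X.presheaf.stalk x) (F.presheaf.stalk x) :=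
    .of_algebraMap_smul fun _ _ => rfl
  haveI := isFiniteType_toFinite hF hU
  haveI := FlatOver.isLocalizedModule_germₗ F hU x hxU
  exact Module.Finite.of_isLocalizedModule (hU.primeIdealOf ⟨x, hxU⟩).asIdeal.primeCompl
    (FlatOver.germₗ F x hxU)

lemma one_le_depth_iff (hF : Coh.IsCoh F) (x : X) :
    (1 : ℕ∞) ≤ LocCoh.depth (X.presheaf.stalk x) (F.presheaf.stalk x) ↔ x ∉ AssSch.Ass F := by
  haveI := finite_stalk F hF x
  rcases subsingleton_or_nontrivial (F.presheaf.stalk x) with h | h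
  · rw [LocCoh.depth, Depth.idealDepth_of_subsingleton]
    refine ⟨fun _ => ?_, fun _ => le_top⟩
    intro hx
    obtain ⟨z, hz, -⟩ := (isWeakAssPoint_iff' F x).1 ((isAssPoint_iff_isWeakAssPoint F x).1 hx)
    exact hz (Subsingleton.elim _ _)
  · rw [Order.one_le_iff_ne_zero]
    exact (Depth.depth_eq_zero_iff (R := X.presheaf.stalk x) (M := F.presheaf.stalk x)).not

/-- A nonzero germ is seen at an associated generization. -/
lemma exists_ass [F.IsQuasicoherent] {W : X.Opens} (hW : IsAffineOpen W) {x : X} (hx : x ∈ W)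
    (s : Γ(F, W)) (hs : F.presheaf.germ W x hx s ≠ 0) :
    ∃ (y : X) (hy : y ∈ W), y ⤳ x ∧ y ∈ AssSch.Ass F ∧ F.presheaf.germ W y hy s ≠ 0 := by
  haveI := isNoetherianRing_sections hW
  let I : Ideal Γ(X, W) := LinearMap.ker (LinearMap.toSpanSingleton Γ(X, W) Γ(F, W) s)
  have hI : I ≤ (hW.primeIdealOf ⟨x, hx⟩).asIdeal := fun a ha => by
    by_contra hna
    exact hs ((germ_eq_zero_iff F hW x hx s).2 ⟨a, hna, ha⟩)
  obtain ⟨b, P, hP, hPq, hIP, hPb⟩ := FlatCodim.exists_prime_colon hI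
  obtain ⟨y, hy, hyP⟩ := exists_point hW P
  refine ⟨y, hy, (AssPts.specializes_iff hW x hx hy).2 (by rw [hyP]; exact hPq), ?_, fun h => ?_⟩
  · refine (mem_ass_iff F hW y hy).2 ?_
    rw [hyP]
    refine WeakAss.mem_ass_iff.2 ⟨hP, b • s, fun a => ?_⟩
    rw [hPb, smul_smul]
    rfl
  · obtain ⟨g, hg, hgs⟩ := (germ_eq_zero_iff F hW y hy s).1 h
    rw [hyP] at hg
    exact hg (hIP hgs)

end Stalks

section Push

variable (Z : Set X) (F : X.Modules)

lemma tr_le (T : ZClos.Cl Z) (W : X.Opens) : tr T W ≤ W := T.U.ι.image_preimage_le W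

/-- The map of sections into the closure. -/
def push (T : ZClos.Cl Z) (W : X.Opens) (u : Γ(F, tr T W)) : Γ((ZClos.H0 Z).obj F, W) :=
  (colimit.ι ((ZClos.diagram Z).obj F) T).app W u

lemma push_mres (T : ZClos.Cl Z) (W : X.Opens) (s : Γ(F, W)) :
    push Z F T W (mres F (tr_le Z T W) s) = (ZClos.rhoApp Z F).app W s :=
  (rho_app_apply Z F T W s).symm

lemma resPush_smul (U W : X.Opens) (r : Γ(X, W)) (u : Γ((ZClos.resPush U).obj F, W)) :
    (r • u : Γ((ZClos.resPush U).obj F, W)) =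
      (ores (U.ι.image_preimage_le W) r • (show Γ(F, U.ι ''ᵁ U.ι ⁻¹ᵁ W) from u) :
        Γ(F, U.ι ''ᵁ U.ι ⁻¹ᵁ W)) := by
  change ((U.ι.appIso _).inv (U.ι.app W r)) • (show Γ(F, U.ι ''ᵁ U.ι ⁻¹ᵁ W) from u) = _
  congr 1
  rw [← ConcreteCategory.comp_apply, Scheme.Hom.app_appIso_inv]
  rfl

lemma push_zero (T : ZClos.Cl Z) (W : X.Opens) : push Z F T W 0 = 0 :=
  map_zero ((colimit.ι ((ZClos.diagram Z).obj F) T).app W).hom

lemma push_smul (T : ZClos.Cl Z) (W : X.Opens) (r : Γ(X, W)) (u : Γ(F, tr T W)) :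
    push Z F T W (ores (tr_le Z T W) r • u) = r • push Z F T W u := by
  refine Eq.trans ?_ (Scheme.Modules.Hom.app_smul (colimit.ι ((ZClos.diagram Z).obj F) T) r
    (show Γ(((ZClos.diagram Z).obj F).obj T, W) from u))
  exact congrArg _ (resPush_smul F T.U W r u).symm

lemma rhoStalk_smul (x : X) (a : X.presheaf.stalk x) (z : F.presheaf.stalk x) :
    ZClos.rhoStalk Z F x (a • z) = a • ZClos.rhoStalk Z F x z := by
  obtain ⟨V₁, hx₁, r, rfl⟩ := TopCat.Presheaf.exists_germ_eq X.presheaf a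
  obtain ⟨V₂, hx₂, s, rfl⟩ := TopCat.Presheaf.exists_germ_eq F.presheaf z
  rw [← TopCat.Presheaf.germ_res_apply X.presheaf (homOfLE (inf_le_left : V₁ ⊓ V₂ ≤ V₁)) x ⟨hx₁, hx₂⟩ r,
    ← TopCat.Presheaf.germ_res_apply F.presheaf (homOfLE (inf_le_right : V₁ ⊓ V₂ ≤ V₂)) x ⟨hx₁, hx₂⟩ s,
    ← germ_smul', rhoStalk_germ, rhoStalk_germ, Scheme.Modules.Hom.app_smul, germ_smul']

lemma rhoStalk_zero (x : X) : ZClos.rhoStalk Z F x 0 = 0 := map_zero _

end Push

variable [IsLocallyNoetherian X] (Z : Set X) (F : X.Modules)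

/-- Germs killed by the closure map vanish off some closed subset of `Z` near the point. -/
lemma exists_tr_eq_zero {W : X.Opens} {x : X} (hx : x ∈ W) (s : Γ(F, W))
    (h : ZClos.rhoStalk Z F x (F.presheaf.germ W x hx s) = 0) :
    ∃ (V : X.Opens) (hV : V ≤ W) (T : ZClos.Cl Z), IsAffineOpen V ∧ x ∈ V ∧
      mres F ((tr_le Z T V).trans hV) s = 0 := by
  rw [rhoStalk_germ] at h
  obtain ⟨W₀, hxW₀, i₁, i₂, hW₀⟩ := TopCat.Presheaf.germ_eq _ x hx hx _ _
    (h.trans (map_zero (((ZClos.H0 Z).obj F).presheaf.germ W x hx).hom).symm)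
  rw [map_zero] at hW₀
  obtain ⟨_, ⟨(V : X.Opens), hV, rfl⟩, hxV, hVW₀⟩ :=
    X.isBasis_affineOpens.exists_subset_of_mem_open hxW₀ W₀.isOpen
  have hVW : V ≤ W := le_trans hVW₀ i₁.le
  have h0 : (ZClos.rhoApp Z F).app V (mres F hVW s) = 0 := by
    refine (ConcreteCategory.congr_hom ((ZClos.rhoApp Z F).mapPresheaf.naturality (homOfLE hVW).op) s).trans ?_
    have h1 := congrArg (((ZClos.H0 Z).obj F).presheaf.map (homOfLE (show V ≤ W₀ from hVW₀)).op) hW₀
    rw [map_zero] at h1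
    refine Eq.trans ?_ h1
    exact (res_comp₂ ((ZClos.H0 Z).obj F) i₁ (homOfLE (show V ≤ W₀ from hVW₀)) (homOfLE hVW) _).symm
  rw [rho_app_apply Z F ⊥] at h0
  obtain ⟨T, g, hT⟩ :=
    ModColimLib.exists_map_eq_zero (colimit.isColimit ((ZClos.diagram Z).obj F)) hV.isCompact _ h0
  rw [map_toDiagram_apply] at hT
  refine ⟨V, hVW, T, hV, hxV, ?_⟩
  rw [← mres_mres F hVW (tr_le Z T V)]
  exact hT

/-- Purity at a point: no associated generization in `Z`. -/
theorem isZPureAt_iff_ass [F.IsQuasicoherent] (hZ : StableUnderSpecialization Z) (x : X) :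
    ZClos.IsZPureAt Z F x ↔ ∀ y : X, y ⤳ x → y ∈ Z → y ∉ AssSch.Ass F := by
  constructor
  · intro h y hyx hyZ hy
    obtain ⟨_, ⟨(W : X.Opens), hW, rfl⟩, hxW, -⟩ :=
      X.isBasis_affineOpens.exists_subset_of_mem_open (Set.mem_univ x) isOpen_univ
    have hyW : y ∈ W := hyx.mem_open W.isOpen hxW
    haveI := isNoetherianRing_sections hW
    obtain ⟨hP, m, hm⟩ := WeakAss.mem_ass_iff.1 ((mem_ass_iff F hW y hyW).1 hy)
    have hne : F.presheaf.germ W x hxW m ≠ 0 := fun h0 => by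
      obtain ⟨g, hg, hgm⟩ := (germ_eq_zero_iff F hW x hxW m).1 h0
      exact hg (prime_le_of_specializes hW hyW hxW hyx ((hm g).2 hgm))
    let T : ZClos.Cl Z := ⟨⟨closure {y}, isClosed_closure⟩,
      fun z hz => hZ (specializes_iff_mem_closure.2 hz) hyZ⟩
    have h0 : mres F (tr_le Z T W) m = 0 := eq_zero_of_germ _ fun z hz => by
      rw [germ_mres]
      have hzW := ((mem_tr Z).1 hz).1
      have hnle : ¬ (hW.primeIdealOf ⟨y, hyW⟩).asIdeal ≤ (hW.primeIdealOf ⟨z, hzW⟩).asIdeal := fun hle =>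
        ((mem_tr Z).1 hz).2 (specializes_iff_mem_closure.1 ((AssPts.specializes_iff hW z hzW hyW).2 hle))
      obtain ⟨g, hg, hgz⟩ := SetLike.not_le_iff_exists.1 hnle
      exact (germ_eq_zero_iff F hW z hzW m).2 ⟨g, hgz, (hm g).1 hg⟩
    refine hne (h ?_)
    rw [rhoStalk_zero, rhoStalk_germ, ← push_mres Z F T, h0, push_zero, map_zero]
  · intro h
    change Function.Injective (ZClos.rhoStalk Z F x)
    rw [injective_iff_map_eq_zero]
    intro z hz
    obtain ⟨W, hxW, s, rfl⟩ := TopCat.Presheaf.exists_germ_eq F.presheaf z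
    obtain ⟨V, hVW, T, hV, hxV, hs⟩ := exists_tr_eq_zero Z F hxW s hz
    rw [← germ_mres F x hVW hxV s]
    by_contra hne
    obtain ⟨y, hy, hyx, hyA, hys⟩ := exists_ass F hV hxV _ hne
    by_cases hyT : y ∈ T.U
    · apply hys
      have hyt : y ∈ tr T V := (mem_tr Z).2 ⟨hy, hyT⟩
      rw [← germ_mres F y (tr_le Z T V) hyt, mres_mres, hs, map_zero]
    · exact h y hyx (T.2 (not_not.1 hyT)) hyA

/-- Purity at a point through depth. -/
theorem isZPureAt_iff_depth (hZ : StableUnderSpecialization Z) (hF : Coh.IsCoh F) (x : X) :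
    ZClos.IsZPureAt Z F x ↔
      ∀ y : X, y ⤳ x → y ∈ Z → (1 : ℕ∞) ≤ LocCoh.depth (X.presheaf.stalk y) (F.presheaf.stalk y) := by
  haveI := hF.1
  rw [isZPureAt_iff_ass Z F hZ x]
  exact forall_congr' fun y => imp_congr_right fun _ => imp_congr_right fun _ =>
    (one_le_depth_iff F hF y).symm

/-- Numerators: an element of the maximal ideal is a unit times a function in the prime. -/
lemma exists_num {W : X.Opens} (hW : IsAffineOpen W) {y : X} (hy : y ∈ W) {r : X.presheaf.stalk y}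
    (hr : r ∈ IsLocalRing.maximalIdeal (X.presheaf.stalk y)) :
    ∃ (s : Γ(X, W)) (v : (X.presheaf.stalk y)ˣ), s ∈ (hW.primeIdealOf ⟨y, hy⟩).asIdeal ∧
      X.presheaf.germ W y hy s = v * r := by
  obtain ⟨g, s, hg, hs⟩ := exists_ringGerm_mul_eq hW y hy r
  refine ⟨s, ((notMem_prime_iff hW y hy g).1 hg).unit,
    (mem_prime_iff hW y hy s).2 (hs ▸ Ideal.mul_mem_right _ _ hr), ?_⟩
  rw [IsUnit.unit_spec, ← hs, mul_comm]

/-- Elements killed by a regular element die near the prime. -/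
lemma exists_notMem_smul_eq_zero [F.IsQuasicoherent] {W : X.Opens} (hW : IsAffineOpen W) {y : X}
    (hy : y ∈ W) (T : ZClos.Cl Z) (s₁ : Γ(X, W))
    (hreg : ∀ m : Γ(F, W), s₁ • m = 0 → F.presheaf.germ W y hy m = 0) (d : Γ(F, tr T W))
    (hd : ores (tr_le Z T W) s₁ • d = 0) :
    ∃ t ∉ (hW.primeIdealOf ⟨y, hy⟩).asIdeal, ores (tr_le Z T W) t • d = 0 := by
  classical
  set p := (hW.primeIdealOf ⟨y, hy⟩).asIdeal with hp
  have hloc : ∀ z : tr T W, ∃ h : Γ(X, W), z.1 ∈ X.basicOpen h ∧ X.basicOpen h ≤ tr T W :=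
    fun z => by
      obtain ⟨h, hh, hzh⟩ := hW.exists_basicOpen_le ⟨z.1, z.2⟩ ((mem_tr Z).1 z.2).1
      exact ⟨h, hzh, hh⟩
  choose h hzh hle using hloc
  obtain ⟨S, hS⟩ := (isCompact_image_preimage T.U W hW.isCompact).elim_finite_subcover
    (fun z : tr T W => (X.basicOpen (h z) : Set X)) (fun z => (X.basicOpen (h z)).isOpen)
    (fun z hz => Set.mem_iUnion.2 ⟨⟨z, hz⟩, hzh _⟩)
  have ht : ∀ z : tr T W, ∃ t ∉ p, ores (X.basicOpen_le (h z)) t • mres F (hle z) d = 0 := fun z => by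
    set D := X.basicOpen (h z)
    obtain ⟨n, m, hm⟩ := exists_pow_smul_eq_mres F hW (h z) rfl (X.basicOpen_le _) (mres F (hle z) d)
    have hu : IsUnit (ores (X.basicOpen_le (h z)) (h z)) := X.toRingedSpace.isUnit_res_basicOpen (h z)
    have hsm : mres F (X.basicOpen_le (h z)) (s₁ • m) = 0 := by
      rw [mres_smul, hm, smul_comm]
      have h1 := congrArg (mres F (hle z)) hd
      rw [mres_smul, map_zero, ores_ores] at h1
      rw [h1, smul_zero]
    obtain ⟨k, hk⟩ := exists_pow_smul_eq_zero F hW (h z) rfl (X.basicOpen_le _) _ hsm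
    rw [smul_comm] at hk
    obtain ⟨t, ht, htm⟩ := (germ_eq_zero_iff F hW y hy _).1 (hreg _ hk)
    refine ⟨t, ht, ?_⟩
    have h2 := congrArg (mres F (X.basicOpen_le (h z))) htm
    rw [mres_smul, mres_smul, hm, map_zero, map_pow, smul_smul, smul_smul, mul_assoc, mul_comm,
      ← smul_smul, ← pow_add] at h2
    exact (hu.pow _).smul_eq_zero.1 h2
  choose t htp ht using ht
  refine ⟨∏ z ∈ S, t z, fun hmem => ?_, ?_⟩
  · obtain ⟨z, -, hz⟩ := ((hW.primeIdealOf ⟨y, hy⟩).isPrime.prod_mem_iff).1 hmem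
    exact htp z hz
  · refine eq_zero_of_germ _ fun w hw => ?_
    obtain ⟨z, hzS, hwz⟩ := Set.mem_iUnion₂.1 (hS hw)
    rw [← germ_mres F w (hle z) hwz, mres_smul, ores_ores]
    obtain ⟨c, hc⟩ := Finset.dvd_prod_of_mem t hzS
    rw [hc, map_mul, mul_comm, mul_smul, ht z, smul_zero, map_zero]

/-- Depth at least two at the generizations in `Z` gives closedness at the point. -/
theorem isZClosedAt_of_depth (hF : Coh.IsCoh F) (hZ : StableUnderSpecialization Z) (x : X)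
    (h : ∀ y : X, y ⤳ x → y ∈ Z → (2 : ℕ∞) ≤ LocCoh.depth (X.presheaf.stalk y) (F.presheaf.stalk y)) :
    ZClos.IsZClosedAt Z F x := by
  classical
  haveI := hF.1
  have hass : ∀ y : X, y ⤳ x → y ∈ Z → y ∉ AssSch.Ass F := fun y hy hyZ =>
    (one_le_depth_iff F hF y).1 (le_trans (by norm_num) (h y hy hyZ))
  refine ⟨(isZPureAt_iff_ass Z F hZ x).2 hass, fun w => ?_⟩
  obtain ⟨W₀, hxW₀, t₀, rfl⟩ := TopCat.Presheaf.exists_germ_eq ((ZClos.H0 Z).obj F).presheaf w
  obtain ⟨_, ⟨(W : X.Opens), hW, rfl⟩, hxW, hWW₀⟩ :=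
    X.isBasis_affineOpens.exists_subset_of_mem_open hxW₀ W₀.isOpen
  obtain ⟨T, u, hu⟩ := ModColimLib.exists_rep (colimit.isColimit ((ZClos.diagram Z).obj F)) hW.isCompact
    (((ZClos.H0 Z).obj F).presheaf.map (homOfLE (show W ≤ W₀ from hWW₀)).op t₀)
  rw [← TopCat.Presheaf.germ_res_apply _ (homOfLE (show W ≤ W₀ from hWW₀)) x hxW t₀, ← hu]
  change ∃ z, ZClos.rhoStalk Z F x z = ((ZClos.H0 Z).obj F).presheaf.germ W x hxW
    (push Z F T W (show Γ(F, tr T W) from u))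
  generalize (show Γ(F, tr T W) from u) = u
  haveI := isNoetherianRing_sections hW
  have hle := tr_le Z T W
  let I : Ideal Γ(X, W) :=
    { carrier := {a | ∃ m, mres F hle m = ores hle a • u}
      add_mem' := fun {a b} ha hb => by
        obtain ⟨ma, hma⟩ := ha
        obtain ⟨mb, hmb⟩ := hb
        exact ⟨ma + mb, by rw [map_add, map_add, add_smul, hma, hmb]⟩
      zero_mem' := ⟨0, by rw [map_zero, map_zero, zero_smul]⟩
      smul_mem' := fun c a ha => by
        obtain ⟨ma, hma⟩ := ha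
        exact ⟨c • ma, by rw [mres_smul, hma, smul_eq_mul, map_mul, mul_smul]⟩ }
  by_cases hI : I ≤ (hW.primeIdealOf ⟨x, hxW⟩).asIdeal
  swap
  · obtain ⟨g, hgI, hgx⟩ := SetLike.not_le_iff_exists.1 hI
    obtain ⟨m, hm⟩ := hgI
    obtain ⟨v, hv⟩ := (notMem_prime_iff hW x hxW g).1 hgx
    refine ⟨v⁻¹.1 • F.presheaf.germ W x hxW m, ?_⟩
    rw [rhoStalk_smul, rhoStalk_germ, ← push_mres Z F T, hm, push_smul, germ_smul', ← hv, ← mul_smul,
      Units.inv_mul, one_smul]
  exfalso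
  obtain ⟨b, P, hP, hPq, hIP, hPb⟩ := FlatCodim.exists_prime_colon hI
  obtain ⟨y, hyW, hyP⟩ := exists_point hW P
  have hyx : y ⤳ x := (AssPts.specializes_iff hW x hxW hyW).2 (by rw [hyP]; exact hPq)
  have hyZ : y ∈ Z := by
    by_cases hyT : y ∈ T.U
    swap
    · exact T.2 (not_not.1 hyT)
    exfalso
    have hyt : y ∈ tr T W := (mem_tr Z).2 ⟨hyW, hyT⟩
    obtain ⟨g, m, hg, hgm⟩ := exists_germ_smul_eq F hW y hyW (F.presheaf.germ (tr T W) y hyt u)
    let d : Γ(F, tr T W) := ores hle g • u - mres F hle m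
    have hd : F.presheaf.germ _ y hyt d = 0 := by
      rw [map_sub, germ_mres, germ_smul', sub_eq_zero, ← hgm]
      congr 1
      exact TopCat.Presheaf.germ_res_apply X.presheaf (homOfLE hle) y hyt g
    obtain ⟨N, hyN, i₁, i₂, hN⟩ := TopCat.Presheaf.germ_eq F.presheaf y hyt hyt d 0
      (hd.trans (map_zero _).symm)
    rw [map_zero] at hN
    obtain ⟨f, hf, hyf⟩ := hW.exists_basicOpen_le ⟨y, hyN⟩ hyW
    have hft : X.basicOpen f ≤ tr T W := hf.trans i₁.le
    obtain ⟨n, hn⟩ := exists_pow_smul_eq_zero_of_isCompact F (isCompact_image_preimage T.U W hW.isCompact)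
      (ores hle f) (W := X.basicOpen f) (by rw [basicOpen_ores, inf_eq_right.2 hft]) hft d (by
        have h1 := congrArg (mres F hf) hN
        rw [map_zero] at h1
        rw [← h1]
        exact (mres_mres F i₁.le hf d).symm)
    have hmem : f ^ n * g ∈ I := ⟨f ^ n • m, by
      rw [smul_sub, sub_eq_zero, ← map_pow, smul_smul, ← map_mul] at hn
      rw [mres_smul, hn]⟩
    refine hP.mul_notMem (fun hh => ?_) (hyP ▸ hg) (hIP hmem)
    rw [← hyP] at hh
    exact (mem_basicOpen_iff_notMem_prime hW y hyW f).1 hyf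
      ((hW.primeIdealOf ⟨y, hyW⟩).isPrime.mem_of_pow_mem n hh)
  have hkill : ∀ m : Γ(F, W), mres F hle m = 0 → F.presheaf.germ W y hyW m = 0 := fun m hm => by
    by_contra hne
    obtain ⟨z, hz, hzy, hzA, hzm⟩ := exists_ass F hW hyW m hne
    by_cases hzT : z ∈ T.U
    · apply hzm
      rw [← germ_mres F z hle ((mem_tr Z).2 ⟨hz, hzT⟩), hm, map_zero]
    · exact hass z (hzy.trans hyx) (T.2 (not_not.1 hzT)) hzA
  have hmem : ∀ s, s ∈ P ↔ ∃ m, mres F hle m = ores hle s • (ores hle b • u) := fun s => by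
    rw [hPb, smul_smul, ← map_mul]
    exact Iff.rfl
  haveI := finite_stalk F hF y
  have key : ∃ t ∉ P, ∃ e : Γ(F, W), mres F hle e = ores hle t • (ores hle b • u) := by
    rcases subsingleton_or_nontrivial (F.presheaf.stalk y) with hs | hs
    · obtain ⟨t, ht, htu⟩ := exists_notMem_smul_eq_zero Z F hW hyW T 0
        (fun m _ => Subsingleton.elim _ _) (ores hle b • u) (by rw [map_zero, zero_smul])
      exact ⟨t, hyP ▸ ht, 0, by rw [map_zero, htu]⟩
    obtain ⟨rs, hl, hm, hr⟩ := (Depth.le_idealDepth_iff_exists (n := 2)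
      (Depth.maximalIdeal_smul_top_ne_top (R := X.presheaf.stalk y) (M := F.presheaf.stalk y))).1 (h y hyx hyZ)
    obtain ⟨r₁, r₂, rfl⟩ := List.length_eq_two.1 hl
    rw [RingTheory.Sequence.isWeaklyRegular_cons_iff,
      RingTheory.Sequence.isWeaklyRegular_singleton_iff] at hr
    obtain ⟨s₁, v₁, hs₁, hv₁⟩ := exists_num hW hyW (hm r₁ List.mem_cons_self)
    obtain ⟨s₂, v₂, hs₂, hv₂⟩ := exists_num hW hyW (hm r₂ (List.mem_cons_of_mem _ List.mem_cons_self))
    rw [hyP] at hs₁ hs₂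
    obtain ⟨m₁, hm₁⟩ := (hmem s₁).1 hs₁
    obtain ⟨m₂, hm₂⟩ := (hmem s₂).1 hs₂
    have h0 : F.presheaf.germ W y hyW (s₁ • m₂ - s₂ • m₁) = 0 := hkill _ (by
      rw [map_sub, mres_smul, mres_smul, hm₁, hm₂, smul_comm, sub_self])
    rw [map_sub, germ_smul', germ_smul', sub_eq_zero, hv₁, hv₂] at h0
    have hz : Submodule.Quotient.mk ((v₂ : X.presheaf.stalk y) • F.presheaf.germ W y hyW m₁) =
        (0 : QuotSMulTop r₁ (F.presheaf.stalk y)) := by
      refine hr.2 (?_ : r₂ • _ = r₂ • (0 : QuotSMulTop r₁ (F.presheaf.stalk y)))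
      rw [smul_zero, ← Submodule.Quotient.mk_smul, Submodule.Quotient.mk_eq_zero, smul_smul,
        mul_comm, ← h0, mul_comm, mul_smul]
      exact Submodule.smul_mem_pointwise_smul _ _ _ trivial
    rw [Submodule.Quotient.mk_eq_zero] at hz
    obtain ⟨e₀, -, he₀⟩ := Submodule.mem_smul_pointwise_iff_exists _ _ _ |>.1 hz
    obtain ⟨g, e, hg, hge⟩ := exists_germ_smul_eq F hW y hyW
      ((↑v₁⁻¹ : X.presheaf.stalk y) • (↑v₂⁻¹ : X.presheaf.stalk y) • e₀)
    have hme : F.presheaf.germ W y hyW (g • m₁ - s₁ • e) = 0 := by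
      rw [map_sub, germ_smul', germ_smul', sub_eq_zero, ← hge, hv₁]
      have h1 : F.presheaf.germ W y hyW m₁ = (↑v₂⁻¹ : X.presheaf.stalk y) • r₁ • e₀ := by
        rw [he₀, smul_smul, Units.inv_mul, one_smul]
      rw [h1]
      simp only [smul_smul]
      congr 1
      linear_combination (-(X.presheaf.germ W y hyW g * r₁ * ↑v₂⁻¹)) * v₁.mul_inv
    obtain ⟨t, ht, hte⟩ := (germ_eq_zero_iff F hW y hyW _).1 hme
    rw [smul_sub, sub_eq_zero] at hte
    have hreg₁ : ∀ m : Γ(F, W), s₁ • m = 0 → F.presheaf.germ W y hyW m = 0 := fun m hm => by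
      have h1 := congrArg (F.presheaf.germ W y hyW) hm
      rw [germ_smul', map_zero, hv₁, mul_smul, v₁.isUnit.smul_eq_zero] at h1
      exact hr.1 (h1.trans (smul_zero r₁).symm)
    obtain ⟨t', ht', hd⟩ := exists_notMem_smul_eq_zero Z F hW hyW T s₁ hreg₁
      (ores hle (t * g) • (ores hle b • u) - mres F hle (t • e)) (by
        rw [smul_sub, smul_comm, ← hm₁, ← mres_smul F hle s₁, smul_comm s₁ t e, ← hte, mres_smul,
          mres_smul, map_mul, mul_smul, sub_self])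
    rw [hyP] at ht'
    rw [hyP] at ht hg
    refine ⟨t' * (t * g), hP.mul_notMem ht' (hP.mul_notMem ht hg), t' • t • e, ?_⟩
    rw [smul_sub, sub_eq_zero] at hd
    rw [mres_smul, ← hd, map_mul (ores hle) t', mul_smul]
  obtain ⟨t, ht, he⟩ := key
  exact ht ((hmem t).2 he)

/-- Closedness at a point gives depth at least two at the generizations in `Z`. -/
theorem two_le_depth_of_isZClosedAt (hF : Coh.IsCoh F) (hZ : StableUnderSpecialization Z) (x : X)
    (h : ZClos.IsZClosedAt Z F x) (y : X) (hyx : y ⤳ x) (hyZ : y ∈ Z) :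
    (2 : ℕ∞) ≤ LocCoh.depth (X.presheaf.stalk y) (F.presheaf.stalk y) := by
  classical
  haveI := hF.1
  haveI := finite_stalk F hF y
  rcases subsingleton_or_nontrivial (F.presheaf.stalk y) with hs | hs
  · rw [LocCoh.depth, Depth.idealDepth_of_subsingleton]; exact le_top
  obtain ⟨r, hr, hreg⟩ := (Depth.one_le_idealDepth_iff
    (Depth.maximalIdeal_smul_top_ne_top (R := X.presheaf.stalk y) (M := F.presheaf.stalk y))).1
    ((isZPureAt_iff_depth Z F hZ hF x).1 h.1 y hyx hyZ)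
  rw [LocCoh.depth, ← Depth.idealDepth_quotSMulTop_add_one _ hr hreg, ← one_add_one_eq_two]
  refine add_le_add_left ?_ 1
  rcases subsingleton_or_nontrivial (QuotSMulTop r (F.presheaf.stalk y)) with hq | hq
  · rw [Depth.idealDepth_of_subsingleton]; exact le_top
  refine Order.one_le_iff_ne_zero.2 fun h0 => ?_
  obtain ⟨-, w, hw⟩ := TildeCompl.isPrime_colon (Depth.depth_eq_zero_iff.1 h0)
  obtain ⟨z, rfl⟩ := Submodule.Quotient.mk_surjective _ w
  have hmax : ∀ a, a ∈ IsLocalRing.maximalIdeal (X.presheaf.stalk y) → ∃ e, a • z = r • e := fun a ha => by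
    have h1 := (hw a).1 ha
    rw [← Submodule.Quotient.mk_smul, Submodule.Quotient.mk_eq_zero,
      Submodule.mem_smul_pointwise_iff_exists] at h1
    obtain ⟨e, -, he⟩ := h1
    exact ⟨e, he.symm⟩
  suffices hmem : ∃ e, z = r • e by
    obtain ⟨e, rfl⟩ := hmem
    refine (IsLocalRing.maximalIdeal.isMaximal (X.presheaf.stalk y)).ne_top
      ((Ideal.eq_top_iff_one _).2 ((hw 1).2 ?_))
    rw [one_smul, Submodule.Quotient.mk_eq_zero]
    exact Submodule.smul_mem_pointwise_smul _ _ _ trivial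
  obtain ⟨_, ⟨(W : X.Opens), hW, rfl⟩, hxW, -⟩ :=
    X.isBasis_affineOpens.exists_subset_of_mem_open (Set.mem_univ x) isOpen_univ
  have hyW : y ∈ W := hyx.mem_open W.isOpen hxW
  haveI := isNoetherianRing_sections hW
  have hPdef := hW.primeIdealOf ⟨y, hyW⟩
  set P := (hW.primeIdealOf ⟨y, hyW⟩).asIdeal with hP
  haveI hPp : P.IsPrime := (hW.primeIdealOf ⟨y, hyW⟩).isPrime
  obtain ⟨g₁, m, hg₁, hgm⟩ := exists_germ_smul_eq F hW y hyW z
  obtain ⟨v₁, hv₁⟩ := (notMem_prime_iff hW y hyW g₁).1 hg₁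
  obtain ⟨s, v, hsP, hv⟩ := exists_num hW hyW hr
  obtain ⟨S, hS⟩ := (IsNoetherian.noetherian P : P.FG)
  have hSP : ∀ g ∈ S, g ∈ P := fun g hg => hS ▸ Submodule.subset_span hg
  have hg : ∀ g ∈ S, ∃ t ∉ P, ∃ e : Γ(F, W), t • (g • m) = s • e := fun g hg => by
    obtain ⟨e₀, he₀⟩ := hmax _ ((mem_prime_iff hW y hyW g).1 (hSP g hg))
    obtain ⟨g', e, hg', hge⟩ := exists_germ_smul_eq F hW y hyW
      ((↑v⁻¹ : X.presheaf.stalk y) • X.presheaf.germ W y hyW g₁ • e₀)
    have h1 : F.presheaf.germ W y hyW ((g' * g) • m - s • e) = 0 := by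
      rw [map_sub, germ_smul', germ_smul', map_mul, sub_eq_zero, ← hge, ← hgm, hv, mul_smul,
        smul_comm (X.presheaf.germ W y hyW g), he₀]
      simp only [smul_smul]
      congr 1
      linear_combination (-(X.presheaf.germ W y hyW g' * X.presheaf.germ W y hyW g₁ * r)) * v.mul_inv
    obtain ⟨t, ht, hte⟩ := (germ_eq_zero_iff F hW y hyW _).1 h1
    refine ⟨t * g', hPp.mul_notMem ht hg', t • e, ?_⟩
    rw [smul_sub, sub_eq_zero, smul_smul] at hte
    rw [smul_smul, mul_assoc, hte, smul_comm]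
  choose! t ht e he using hg
  let τ := ∏ g ∈ S, t g
  have hτ : τ ∉ P := fun hmem => by
    obtain ⟨g, hg, hgp⟩ := hPp.prod_mem_iff.1 hmem
    exact ht g hg hgp
  have hε : ∀ g ∈ S, ∃ ε : Γ(F, W), g • (τ • m) = s • ε := fun g hg => by
    obtain ⟨c, hc⟩ := Finset.dvd_prod_of_mem t hg
    refine ⟨c • e g, ?_⟩
    change g • ((∏ g ∈ S, t g) • m) = _
    rw [hc, smul_comm s c, ← he g hg, smul_smul, smul_smul, smul_smul]
    congr 1; ring
  choose! ε hε using hε
  have hrel : ∀ q ∈ S ×ˢ S, ∃ d ∉ P, d • (q.1 • ε q.2 - q.2 • ε q.1) = 0 := fun q hq => by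
    rw [Finset.mem_product] at hq
    refine (germ_eq_zero_iff F hW y hyW _).1 (hreg ?_)
    change r • _ = r • (0 : F.presheaf.stalk y)
    rw [smul_zero, ← v.isUnit.smul_eq_zero, smul_smul, ← hv, ← germ_smul', smul_sub, smul_comm s,
      smul_comm s q.2, ← hε _ hq.2, ← hε _ hq.1, smul_comm q.1, sub_self, map_zero]
  choose! d hd hdrel using hrel
  let δ := ∏ q ∈ S ×ˢ S, d q
  have hδ : δ ∉ P := fun hmem => by
    obtain ⟨g, hg, hgp⟩ := hPp.prod_mem_iff.1 hmem
    exact hd g hg hgp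
  have hagree : ∀ g ∈ S, ∀ g' ∈ S, g • (δ • ε g') = g' • (δ • ε g) := fun g hg g' hg' => by
    obtain ⟨c, hc⟩ := Finset.dvd_prod_of_mem d (Finset.mem_product.2 ⟨hg, hg'⟩ : (g, g') ∈ S ×ˢ S)
    have h1 := congrArg (fun x => c • x) (hdrel (g, g') (Finset.mem_product.2 ⟨hg, hg'⟩))
    simp only [smul_sub, smul_zero, sub_eq_zero, smul_smul] at h1
    change g • ((∏ q ∈ S ×ˢ S, d q) • ε g') = g' • ((∏ q ∈ S ×ˢ S, d q) • ε g)
    rw [hc]
    simp only [smul_smul]
    calc (g * (d (g, g') * c)) • ε g' = (c * (d (g, g') * g)) • ε g' := by congr 1; ring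
      _ = (c * (d (g, g') * g')) • ε g := h1
      _ = _ := by congr 1; ring
  let T : ZClos.Cl Z := ⟨⟨closure {y}, isClosed_closure⟩,
    fun a ha => hZ (specializes_iff_mem_closure.2 ha) hyZ⟩
  have hDle : ∀ g : S, X.basicOpen g.1 ≤ tr T W := fun g a ha => by
    refine (mem_tr Z).2 ⟨X.basicOpen_le _ ha, fun hcl => ?_⟩
    exact (mem_basicOpen_iff_notMem_prime hW a (X.basicOpen_le _ ha) g.1).1 ha
      (prime_le_of_specializes hW hyW (X.basicOpen_le _ ha) (specializes_iff_mem_closure.2 hcl)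
        (hSP g.1 g.2))
  have hcov : tr T W ≤ ⨆ g : S, X.basicOpen g.1 := fun a ha => by
    have haW := ((mem_tr Z).1 ha).1
    have hnle : ¬ P ≤ (hW.primeIdealOf ⟨a, haW⟩).asIdeal := fun hle =>
      ((mem_tr Z).1 ha).2 (specializes_iff_mem_closure.1 ((AssPts.specializes_iff hW a haW hyW).2 hle))
    by_contra hn
    refine hnle (hS.ge.trans (Ideal.span_le.2 fun g hg => ?_))
    by_contra hga
    exact hn (Opens.mem_iSup.2 ⟨⟨g, hg⟩, (mem_basicOpen_iff_notMem_prime hW a haW g).2 hga⟩)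
  have hunit : ∀ (g : S) (V : X.Opens) (hV : V ≤ X.basicOpen g.1),
      IsUnit (ores (hV.trans (X.basicOpen_le g.1)) g.1) := fun g V hV => by
    have h1 : IsUnit (ores (X.basicOpen_le g.1) g.1) := X.toRingedSpace.isUnit_res_basicOpen g.1
    simpa only [ores_ores] using h1.map (ores hV)
  let sf : ∀ g : S, Γ(F, X.basicOpen g.1) := fun g =>
    (hunit g _ le_rfl).unit⁻¹.1 • mres F (X.basicOpen_le g.1) (δ • ε g.1)
  have hsf : ∀ g : S, ores (X.basicOpen_le g.1) g.1 • sf g = mres F (X.basicOpen_le g.1) (δ • ε g.1) :=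
    fun g => by rw [smul_smul, IsUnit.mul_val_inv, one_smul]
  obtain ⟨u, hu, -⟩ := TopCat.Sheaf.existsUnique_gluing' ⟨F.presheaf, F.isSheaf⟩
    (fun g : S => X.basicOpen g.1) (tr T W) (fun g => homOfLE (hDle g)) hcov sf (fun g g' => by
      change mres F inf_le_left (sf g) = mres F inf_le_right (sf g')
      have e1 := congrArg (mres F (inf_le_left : X.basicOpen g.1 ⊓ X.basicOpen g'.1 ≤ _)) (hsf g)
      have e2 := congrArg (mres F (inf_le_right : X.basicOpen g.1 ⊓ X.basicOpen g'.1 ≤ _)) (hsf g')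
      rw [mres_smul, mres_mres, ores_ores] at e1 e2
      have e3 := congrArg (mres F (inf_le_left.trans (X.basicOpen_le g.1) :
        X.basicOpen g.1 ⊓ X.basicOpen g'.1 ≤ W)) (hagree g.1 g.2 g'.1 g'.2)
      rw [mres_smul F _ g.1, mres_smul F _ g'.1, ← e1, ← e2, smul_comm (ores _ g'.1), smul_comm (ores _ g.1)] at e3
      refine ((hunit g _ inf_le_left).mul (hunit g' _ inf_le_right)).smul_left_cancel.1 ?_
      rw [mul_smul, mul_smul]
      exact e3.symm.trans (smul_comm _ _ _))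
  have hle := tr_le Z T W
  have hsu : ores hle s • u = mres F hle ((δ * τ) • m) := by
    refine TopCat.Sheaf.eq_of_locally_eq' (⟨F.presheaf, F.isSheaf⟩ : TopCat.Sheaf AddCommGrpCat X.toTopCat)
      (fun g : S => X.basicOpen g.1) (tr T W) (fun g => homOfLE (hDle g)) hcov _ _ fun g => ?_
    change mres F (hDle g) _ = mres F (hDle g) _
    have hu' : mres F (hDle g) u = sf g := hu g
    rw [mres_smul, mres_mres, hu', ores_ores]
    refine (hunit g _ le_rfl).smul_left_cancel.1 ?_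
    rw [smul_comm, hsf g, ← mres_smul, ← mres_smul, smul_comm s δ, ← hε g.1 g.2]
    congr 1
    rw [smul_smul, smul_smul, smul_smul]
    congr 1; ring
  obtain ⟨z₀, hz₀⟩ := h.2 (((ZClos.H0 Z).obj F).presheaf.germ W x hxW (push Z F T W u))
  obtain ⟨g₀, e₀, hg₀, hge₀⟩ := exists_germ_smul_eq F hW x hxW z₀
  have h1 : X.presheaf.germ W x hxW s • z₀ = F.presheaf.germ W x hxW ((δ * τ) • m) := h.1 (by
    rw [rhoStalk_smul, hz₀, rhoStalk_germ, ← germ_smul', ← push_smul, hsu, push_mres])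
  have h2 : F.presheaf.germ W x hxW (s • e₀ - g₀ • (δ * τ) • m) = 0 := by
    rw [map_sub, germ_smul', germ_smul' F x hxW g₀, sub_eq_zero, ← hge₀, ← h1, smul_comm]
  obtain ⟨g₂, hg₂, hg₂0⟩ := (germ_eq_zero_iff F hW x hxW _).1 h2
  have hPq : P ≤ (hW.primeIdealOf ⟨x, hxW⟩).asIdeal := prime_le_of_specializes hW hyW hxW hyx
  have h3 : F.presheaf.germ W y hyW (s • e₀) = F.presheaf.germ W y hyW ((g₀ * (δ * τ)) • m) := by
    rw [← sub_eq_zero, ← map_sub, mul_smul]
    exact (germ_eq_zero_iff F hW y hyW _).2 ⟨g₂, fun hh => hg₂ (hPq hh), hg₂0⟩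
  rw [germ_smul', germ_smul', hv, ← hgm, smul_smul, ← map_mul] at h3
  obtain ⟨c, hc⟩ := (notMem_prime_iff hW y hyW _).1
    (hPp.mul_notMem (hPp.mul_notMem (fun hh => hg₀ (hPq hh)) (hPp.mul_notMem hδ hτ)) hg₁)
  refine ⟨(↑c⁻¹ : X.presheaf.stalk y) • (v : X.presheaf.stalk y) • F.presheaf.germ W y hyW e₀, ?_⟩
  rw [← hc] at h3
  rw [smul_comm r, smul_smul r, mul_comm r, h3, smul_smul, Units.inv_mul, one_smul]

theorem isZClosedAt_iff_depth (hF : Coh.IsCoh F) (hZ : StableUnderSpecialization Z) (x : X) :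
    ZClos.IsZClosedAt Z F x ↔
      ∀ y : X, y ⤳ x → y ∈ Z → (2 : ℕ∞) ≤ LocCoh.depth (X.presheaf.stalk y) (F.presheaf.stalk y) :=
  ⟨fun h y => two_le_depth_of_isZClosedAt Z F hF hZ x h y, isZClosedAt_of_depth Z F hF hZ x⟩

end Groth.Agent.ZClosLib
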