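import Groth.Agent.ModColimLib.Sections
import Groth.Prelude.Def_ZClos
import Groth.Agent.QCohBase.Exact
import Mathlib.AlgebraicGeometry.Noetherian
import Mathlib.CategoryTheory.Abelian.Exact
import Mathlib.Algebra.Homology.ShortComplex.ExactFunctor
import Groth.Agent.QCohBase.Criteria
import Groth.Agent.QCohBase.Qcqs
import Groth.Agent.SiteBase.ModGrothendieck

/-!
# The `Z`-closure: pure and closed modules
-/

set_option autoImplicit false
set_option linter.style.haveILetI false

noncomputable section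

universe u

open CategoryTheory CategoryTheory.Limits AlgebraicGeometry TopologicalSpace Opposite

namespace Groth.Agent.ZClosLib

variable {X : Scheme.{u}}

/-- Injectivity on quasi-compact opens gives a monomorphism. -/
lemma mono_of_app_injective {M N : X.Modules} (φ : M ⟶ N)
    (h : ∀ V : X.Opens, IsCompact (V : Set X) → Function.Injective (φ.app V)) : Mono φ := by
  refine ⟨fun {P} a b hab => ?_⟩
  ext V s
  refine TopCat.Sheaf.eq_of_locally_eq' ⟨M.presheaf, M.isSheaf⟩
    (fun W : {W : X.affineOpens // (W.1 : X.Opens) ≤ V} => W.1.1) V (fun W => homOfLE W.2) ?_ _ _ fun W => ?_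
  · intro x hx
    obtain ⟨_, ⟨(U : X.Opens), hU, rfl⟩, hxU, hUV⟩ :=
      X.isBasis_affineOpens.exists_subset_of_mem_open hx V.isOpen
    exact Opens.mem_iSup.2 ⟨⟨⟨U, hU⟩, hUV⟩, hxU⟩
  · refine (ConcreteCategory.congr_hom (a.mapPresheaf.naturality (homOfLE W.2).op) s).symm.trans ?_
    refine Eq.trans ?_ (ConcreteCategory.congr_hom (b.mapPresheaf.naturality (homOfLE W.2).op) s)
    refine h W.1.1 W.1.2.isCompact ?_
    exact ConcreteCategory.congr_hom (congrArg (fun ψ => Scheme.Modules.Hom.app ψ W.1.1) hab) _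

/-- Sections of a monomorphism are injective. -/
lemma app_injective_of_mono {M N : X.Modules} (φ : M ⟶ N) [Mono φ] (V : X.Opens) :
    Function.Injective (φ.app V) := by
  exact QCohBase.app_injective_of_mono φ V

/-- Bijectivity on quasi-compact opens gives an isomorphism. -/
lemma isIso_of_app_bijective {M N : X.Modules} (φ : M ⟶ N)
    (h : ∀ V : X.Opens, IsCompact (V : Set X) → Function.Bijective (φ.app V)) : IsIso φ := by
  haveI := mono_of_app_injective φ fun V hV => (h V hV).1
  refine Scheme.Modules.Hom.isIso_iff_isIso_app.mpr fun V => ?_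
  refine (ConcreteCategory.isIso_iff_bijective _).2 ⟨app_injective_of_mono φ V, fun t => ?_⟩
  let ι := {W : X.affineOpens // (W.1 : X.Opens) ≤ V}
  choose σ hσ using fun W : ι =>
    (h W.1.1 W.1.2.isCompact).2 (N.presheaf.map (homOfLE W.2).op t)
  have hcov : V ≤ ⨆ W : ι, W.1.1 := by
    intro x hx
    obtain ⟨_, ⟨(U : X.Opens), hU, rfl⟩, hxU, hUV⟩ :=
      X.isBasis_affineOpens.exists_subset_of_mem_open hx V.isOpen
    exact Opens.mem_iSup.2 ⟨⟨⟨U, hU⟩, hUV⟩, hxU⟩
  obtain ⟨s, hs, -⟩ := TopCat.Sheaf.existsUnique_gluing' ⟨M.presheaf, M.isSheaf⟩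
    (fun W : ι => W.1.1) V (fun W => homOfLE W.2) hcov σ (fun W W' => by
      apply app_injective_of_mono φ
      refine (ConcreteCategory.congr_hom (φ.mapPresheaf.naturality _) (σ W)).trans ?_
      refine Eq.trans ?_ (ConcreteCategory.congr_hom (φ.mapPresheaf.naturality _) (σ W')).symm
      refine (congrArg _ (hσ W)).trans ?_
      refine Eq.trans ?_ (congrArg _ (hσ W')).symm
      exact ModColimLib.res_res N _ _ _ _ t)
  refine ⟨s, TopCat.Sheaf.eq_of_locally_eq' ⟨N.presheaf, N.isSheaf⟩
    (fun W : ι => W.1.1) V (fun W => homOfLE W.2) hcov _ _ fun W => ?_⟩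
  refine (ConcreteCategory.congr_hom (φ.mapPresheaf.naturality _) s).symm.trans ?_
  exact (congrArg _ (hs W)).trans (hσ W)

variable [IsLocallyNoetherian X] (Z : Set X) (F : X.Modules)

/-- The trace of an open on a quasi-compact open is quasi-compact. -/
lemma isCompact_image_preimage (U V : X.Opens) (hV : IsCompact (V : Set X)) :
    IsCompact ((U.ι ''ᵁ U.ι ⁻¹ᵁ V : X.Opens) : Set X) :=
  (U.ι.isCompact_preimage hV).image U.ι.continuous

/-- The colimit cocone defining the `Z`-closure. -/
abbrev cocone : Cocone ((ZClos.diagram Z).obj F) := colimit.cocone _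

omit [IsLocallyNoetherian X] in
lemma rho_app_apply (T : ZClos.Cl Z) (V : X.Opens) (s : Γ(F, V)) :
    (ZClos.rhoApp Z F).app V s =
      (colimit.ι ((ZClos.diagram Z).obj F) T).app V ((ZClos.toDiagram Z F T).app V s) := by
  rw [ZClos.rhoApp_eq Z F T]
  rfl

omit [IsLocallyNoetherian X] in
lemma map_toDiagram_apply {T T' : ZClos.Cl Z} (g : T ⟶ T') (V : X.Opens) (s : Γ(F, V)) :
    (((ZClos.diagram Z).obj F).map g).app V ((ZClos.toDiagram Z F T).app V s) =
      (ZClos.toDiagram Z F T').app V s :=
  ConcreteCategory.congr_hom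
    (congrArg (fun φ => Scheme.Modules.Hom.app φ V) (ZClos.toDiagram_map Z F g)) s

omit [IsLocallyNoetherian X] in
theorem isZPure_iff : ZClos.IsZPure Z F ↔ ∀ T : ZClos.Cl Z, Mono (ZClos.toDiagram Z F T) := by
  refine ⟨fun h T => ?_, fun h => mono_of_app_injective _ fun V hV => ?_⟩
  · haveI : Mono (ZClos.rhoApp Z F) := h
    have hm : Mono (ZClos.toDiagram Z F T ≫ colimit.ι ((ZClos.diagram Z).obj F) T) :=
      ZClos.rhoApp_eq Z F T ▸ h
    exact @mono_of_mono _ _ _ _ _ (ZClos.toDiagram Z F T) (colimit.ι ((ZClos.diagram Z).obj F) T) hm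
  · rw [injective_iff_map_eq_zero]
    intro s hs
    rw [rho_app_apply Z F ⊥] at hs
    obtain ⟨T, g, hT⟩ :=
      ModColimLib.exists_map_eq_zero (colimit.isColimit ((ZClos.diagram Z).obj F)) hV _ hs
    rw [map_toDiagram_apply] at hT
    haveI := h T
    exact app_injective_of_mono (ZClos.toDiagram Z F T) V (hT.trans (map_zero _).symm)

theorem isZClosed_iff : ZClos.IsZClosed Z F ↔ ∀ T : ZClos.Cl Z, IsIso (ZClos.toDiagram Z F T) := by
  refine ⟨fun h T => ?_, fun h => isIso_of_app_bijective _ fun V hV => ⟨?_, fun t => ?_⟩⟩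
  · haveI hiso : IsIso (ZClos.rhoApp Z F) := h
    have hp : ∀ T, Mono (ZClos.toDiagram Z F T) :=
      (isZPure_iff Z F).1 (show Mono (ZClos.rhoApp Z F) from inferInstance)
    refine isIso_of_app_bijective _ fun V hV => ⟨?_, fun t => ?_⟩
    · haveI := hp T
      exact app_injective_of_mono _ V
    · obtain ⟨s, hs⟩ := ((ConcreteCategory.isIso_iff_bijective ((ZClos.rhoApp Z F).app V)).1
        inferInstance).2 ((colimit.ι ((ZClos.diagram Z).obj F) T).app V t)
      refine ⟨s, sub_eq_zero.1 ?_⟩
      have h0 : (colimit.ι ((ZClos.diagram Z).obj F) T).app V ((ZClos.toDiagram Z F T).app V s - t) = 0 := by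
        rw [map_sub, ← rho_app_apply, hs, sub_self]
      obtain ⟨T', g, hT'⟩ :=
        ModColimLib.exists_map_eq_zero (colimit.isColimit ((ZClos.diagram Z).obj F)) hV _ h0
      set d := (ZClos.toDiagram Z F T).app V s - t with hd
      -- the difference restricts to zero off `T'`, so it is zero by purity
      let W : X.Opens := T.U.ι ''ᵁ T.U.ι ⁻¹ᵁ V
      haveI := hp T'
      refine app_injective_of_mono (ZClos.toDiagram Z F T') W (a₂ := (0 : Γ(F, W))) ?_
      rw [map_zero]
      have h1 : (ZClos.resPushMapApp (ZClos.Cl.U_anti g.le) F).app V d = 0 := hT'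
      rw [ZClos.resPushMapApp_app] at h1
      change ((ZClos.resPushUnit T'.U).app F).app W d = 0
      rw [ZClos.resPushUnit_app_app]
      have hle : T'.U.ι ''ᵁ T'.U.ι ⁻¹ᵁ W ≤ T'.U.ι ''ᵁ T'.U.ι ⁻¹ᵁ V :=
        (ZClos.resPush_image_eq (ZClos.Cl.U_anti g.le) V).le
      have h2 := congrArg (F.presheaf.map (homOfLE hle).op) h1
      refine Eq.trans ?_ (h2.trans (map_zero _))
      exact (ConcreteCategory.congr_hom
        ((congrArg F.presheaf.map (Subsingleton.elim _ ((ZClos.trIncl (ZClos.Cl.U_anti g.le) V).op ≫ (homOfLE hle).op))).trans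
          (F.presheaf.map_comp _ _)) d).trans (ConcreteCategory.comp_apply _ _ _)
  · rw [injective_iff_map_eq_zero]
    intro s hs
    rw [rho_app_apply Z F ⊥] at hs
    obtain ⟨T, g, hT⟩ :=
      ModColimLib.exists_map_eq_zero (colimit.isColimit ((ZClos.diagram Z).obj F)) hV _ hs
    rw [map_toDiagram_apply] at hT
    haveI := h T
    exact app_injective_of_mono (ZClos.toDiagram Z F T) V (hT.trans (map_zero _).symm)
  · obtain ⟨T, u, hu⟩ := ModColimLib.exists_rep (colimit.isColimit ((ZClos.diagram Z).obj F)) hV t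
    haveI := h T
    obtain ⟨s, rfl⟩ := ((ConcreteCategory.isIso_iff_bijective ((ZClos.toDiagram Z F T).app V)).1
      inferInstance).2 u
    exact ⟨s, (rho_app_apply Z F T V s).trans hu⟩

end Groth.Agent.ZClosLib

namespace Groth.Agent.ZClosLib

variable {X : Scheme.{u}} (Z : Set X) (F : X.Modules)

lemma ι_image_preimage_le (T : ZClos.Cl Z) (V : X.Opens) : T.U.ι ''ᵁ T.U.ι ⁻¹ᵁ V = V ⊓ T.U := by
  rw [ZClos.ι_image_preimage, inf_comm]

/-- The unit on sections is restriction to the trace on the complement. -/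
lemma toDiagram_app_factor (T : ZClos.Cl Z) (V : X.Opens) (s : Γ(F, V)) :
    (F.presheaf.map (eqToHom (ι_image_preimage_le Z T V)).op)
        (F.presheaf.map (homOfLE (inf_le_left : V ⊓ T.U ≤ V)).op s) =
      (ZClos.toDiagram Z F T).app V s :=
  by
  change _ = F.presheaf.map (homOfLE (T.U.ι.image_preimage_le V)).op s
  rw [← ConcreteCategory.comp_apply, ← Functor.map_comp]
  rfl

lemma bijective_map_eqToHom {U V : X.Opens} (h : U = V) :
    Function.Bijective (F.presheaf.map (eqToHom h).op) :=
  ConcreteCategory.bijective_of_isIso _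

lemma injective_toDiagram_app_iff (T : ZClos.Cl Z) (V : X.Opens) :
    Function.Injective ((ZClos.toDiagram Z F T).app V) ↔
      Function.Injective (F.presheaf.map (homOfLE (inf_le_left : V ⊓ T.U ≤ V)).op) := by
  rw [← (bijective_map_eqToHom F (ι_image_preimage_le Z T V)).1.of_comp_iff]
  exact iff_of_eq (congrArg Function.Injective (funext fun s => (toDiagram_app_factor Z F T V s).symm))

lemma bijective_toDiagram_app_iff (T : ZClos.Cl Z) (V : X.Opens) :
    Function.Bijective ((ZClos.toDiagram Z F T).app V) ↔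
      Function.Bijective (F.presheaf.map (homOfLE (inf_le_left : V ⊓ T.U ≤ V)).op) := by
  rw [← Function.Bijective.of_comp_iff' (bijective_map_eqToHom F (ι_image_preimage_le Z T V))]
  exact iff_of_eq (congrArg Function.Bijective (funext fun s => (toDiagram_app_factor Z F T V s).symm))

/-- The unit is invertible after applying `j_* j^*`. -/
lemma isIso_resPush_map_unit (U : X.Opens) :
    IsIso ((ZClos.resPush U).map ((ZClos.resPushUnit U).app F)) := by
  refine Scheme.Modules.Hom.isIso_iff_isIso_app.mpr fun V => ?_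
  rw [ZClos.resPush_map_app, ZClos.resPushUnit_app_app]
  have e : U.ι ''ᵁ U.ι ⁻¹ᵁ (U.ι ''ᵁ U.ι ⁻¹ᵁ V) = U.ι ''ᵁ U.ι ⁻¹ᵁ V := by
    simp only [ZClos.ι_image_preimage, ← inf_assoc, inf_idem]
  have h : homOfLE (U.ι.image_preimage_le (U.ι ''ᵁ U.ι ⁻¹ᵁ V)) = eqToHom e := Subsingleton.elim _ _
  rw [h]
  exact Functor.map_isIso F.presheaf (eqToHom e).op

variable [IsLocallyNoetherian X]

/-- The universal property of the `Z`-closure. -/
theorem existsUnique_fac (F' : X.Modules) (hF' : ZClos.IsZClosed Z F') (u : F ⟶ F') :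
    ∃! v : (ZClos.H0 Z).obj F ⟶ F', ZClos.rhoApp Z F ≫ v = u := by
  have hi := (isZClosed_iff Z F').1 hF'
  let leg : ∀ T : ZClos.Cl Z, ((ZClos.diagram Z).obj F).obj T ⟶ F' := fun T =>
    haveI := hi T
    ((ZClos.diagram Z).map u).app T ≫ inv (ZClos.toDiagram Z F' T)
  let cc : Cocone ((ZClos.diagram Z).obj F) :=
    { pt := F'
      ι :=
        { app := leg
          naturality := fun T T' g => by
            haveI := hi T
            haveI := hi T'
            rw [Functor.const_obj_map]
            refine Eq.trans ?_ (Category.comp_id _).symm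
            simp only [leg]
            rw [← cancel_mono (ZClos.toDiagram Z F' T'), Category.assoc, Category.assoc,
              IsIso.inv_hom_id, Category.comp_id, Category.assoc, ((ZClos.diagram Z).map u).naturality g]
            refine congrArg _ ?_
            rw [IsIso.eq_inv_comp, ZClos.toDiagram_map] } }
  refine ⟨colimit.desc _ cc, ?_, fun v hv => ?_⟩
  · change ZClos.rhoApp Z F ≫ colimit.desc _ cc = u
    haveI := hi ⊥
    refine (congrArg (· ≫ colimit.desc _ cc) (ZClos.rhoApp_eq Z F ⊥)).trans ?_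
    refine (Category.assoc _ _ _).trans ?_
    rw [colimit.ι_desc]
    change ZClos.toDiagram Z F ⊥ ≫ _ ≫ inv _ = u
    rw [← Category.assoc, ← ZClos.toDiagram_naturality, Category.assoc, IsIso.hom_inv_id, Category.comp_id]
  · refine colimit.hom_ext fun T => ?_
    haveI := hi T
    rw [colimit.ι_desc]
    change colimit.ι _ T ≫ v = leg T
    rw [← cancel_mono (ZClos.toDiagram Z F' T)]
    simp only [leg]
    rw [Category.assoc (((ZClos.diagram Z).map u).app T), IsIso.inv_hom_id, Category.comp_id,
      ZClos.toDiagram_naturality]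
    have h2 : ZClos.toDiagram Z F T ≫ colimit.ι ((ZClos.diagram Z).obj F) T ≫ v = u := by
      exact (Category.assoc _ _ _).symm.trans ((congrArg (· ≫ v) (ZClos.rhoApp_eq Z F T).symm).trans hv)
    haveI := isIso_resPush_map_unit F T.U
    haveI := ZClos.isIso_unit_resPush (le_refl T.U) F
    change (ZClos.resPushUnit T.U).app ((ZClos.resPush T.U).obj F) ≫
      (ZClos.resPush T.U).map (colimit.ι ((ZClos.diagram Z).obj F) T ≫ v) = (ZClos.resPush T.U).map u
    rw [← h2, Functor.map_comp (ZClos.resPush T.U) (ZClos.toDiagram Z F T)]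
    refine congrArg (· ≫ _) ?_
    ext V : 1
    change _ = ((ZClos.resPush T.U).map ((ZClos.resPushUnit T.U).app F)).app V
    rw [ZClos.resPush_map_app, ZClos.resPushUnit_app_app, ZClos.resPushUnit_app_app,
      ZClos.resPush_presheaf_map]
    exact congrArg F.presheaf.map (Subsingleton.elim _ _)

/-- The `Z`-closure of a quasi-coherent module is quasi-coherent. -/
theorem isQuasicoherent_H0 [F.IsQuasicoherent] : ((ZClos.H0 Z).obj F).IsQuasicoherent :=
  QCohBase.isQuasicoherent_colimit _ fun T => by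
    haveI : (F.restrict T.U.ι).IsQuasicoherent := inferInstance
    exact QCohBase.isQuasicoherent_pushforward (F.restrict T.U.ι) T.U.ι

omit [IsLocallyNoetherian X] in
/-- The `Z`-closure is left exact. -/
theorem preservesFiniteLimits_H0 : PreservesFiniteLimits (ZClos.H0 (X := X) Z) := by
  haveI : ∀ T : ZClos.Cl Z,
      PreservesFiniteLimits (ZClos.diagram Z ⋙ (evaluation (ZClos.Cl Z) X.Modules).obj T) := fun T => by
    haveI : PreservesLimitsOfSize.{0, 0} (Scheme.Modules.pushforward T.U.ι) :=
      (Scheme.Modules.restrictAdjunction T.U.ι).rightAdjoint_preservesLimits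
    haveI : (Scheme.Modules.restrictFunctor T.U.ι).Additive :=
      ⟨fun {M N f g} => Scheme.Modules.hom_ext _ _ fun W => rfl⟩
    haveI : (Scheme.Modules.restrictFunctor T.U.ι).PreservesMonomorphisms :=
      ⟨fun {M N} f hf => mono_of_app_injective _ fun W _ =>
        app_injective_of_mono f (T.U.ι ''ᵁ W)⟩
    haveI : PreservesColimitsOfSize.{0, 0} (Scheme.Modules.restrictFunctor T.U.ι) :=
      (Scheme.Modules.restrictAdjunction T.U.ι).leftAdjoint_preservesColimits
    haveI := (Scheme.Modules.restrictFunctor T.U.ι).preservesHomology_of_preservesMonos_and_cokernels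
    haveI : PreservesFiniteLimits (Scheme.Modules.restrictFunctor T.U.ι) :=
      (Scheme.Modules.restrictFunctor T.U.ι).preservesFiniteLimits_of_preservesHomology
    exact inferInstanceAs (PreservesFiniteLimits (ZClos.resPush T.U))
  haveI : PreservesFiniteLimits (ZClos.diagram (X := X) Z) :=
    ⟨fun J _ _ => preservesLimitsOfShape_of_evaluation _ _ fun T => inferInstance⟩
  haveI : HasExactColimitsOfShape (ZClos.Cl Z) X.Modules :=
    inferInstanceAs (HasExactColimitsOfShape (ZClos.Cl Z) (SheafOfModules.{u} X.ringCatSheaf))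
  haveI : PreservesFiniteLimits (colim : (ZClos.Cl Z ⥤ X.Modules) ⥤ X.Modules) :=
    HasExactColimitsOfShape.preservesFiniteLimits
  exact comp_preservesFiniteLimits _ _

end Groth.Agent.ZClosLib
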