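import Groth.Agent.ZClosLib.Points

/-!
# Purity and closedness are local
-/

set_option autoImplicit false
set_option linter.style.haveILetI false

noncomputable section

universe u

open CategoryTheory CategoryTheory.Limits AlgebraicGeometry TopologicalSpace Opposite

namespace Groth.Agent.ZClosLib

variable {X : Scheme.{u}} (Z : Set X) (F : X.Modules)

lemma map_injective_congr {A B A' B' : X.Opens} (hA : A = A') (hB : B = B') (h : B ≤ A) (h' : B' ≤ A') :
    Function.Injective (F.presheaf.map (homOfLE h).op) ↔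
      Function.Injective (F.presheaf.map (homOfLE h').op) := by
  subst hA hB; rfl

lemma map_bijective_congr {A B A' B' : X.Opens} (hA : A = A') (hB : B = B') (h : B ≤ A) (h' : B' ≤ A') :
    Function.Bijective (F.presheaf.map (homOfLE h).op) ↔
      Function.Bijective (F.presheaf.map (homOfLE h').op) := by
  subst hA hB; rfl

variable [IsLocallyNoetherian X]

omit [IsLocallyNoetherian X] in
lemma image_preimage_inf (V : X.Opens) (T : ZClos.Cl Z) (T' : ZClos.Cl (V.ι.base ⁻¹' Z))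
    (hT' : ((T'.1 : Set V.toScheme)) = V.ι.base ⁻¹' (T.1 : Set X)) (W : V.toScheme.Opens) :
    V.ι ''ᵁ (W ⊓ T'.U) = V.ι ''ᵁ W ⊓ T.U := by
  ext x
  constructor
  · rintro ⟨y, ⟨hyW, hyT⟩, rfl⟩
    refine ⟨⟨y, hyW, rfl⟩, fun h => hyT ?_⟩
    exact (hT'.symm.subset (show y ∈ V.ι.base ⁻¹' (T.1 : Set X) from h) :)
  · rintro ⟨⟨y, hyW, rfl⟩, hyT⟩
    exact ⟨y, ⟨hyW, fun h => hyT (hT'.subset h)⟩, rfl⟩

/-- The trace on an open of a closed subset contained in `Z`. -/
def clPreimage (V : X.Opens) (T : ZClos.Cl Z) : ZClos.Cl (V.ι.base ⁻¹' Z) :=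
  ⟨T.1.preimage V.ι.continuous, fun _ h => T.2 h⟩

/-- On a quasi-compact open the closed subsets of an open subscheme contained in `Z` extend. -/
lemma exists_cl_image (hZ : StableUnderSpecialization Z) (V : X.Opens)
    (T' : ZClos.Cl (V.ι.base ⁻¹' Z)) (W : V.toScheme.Opens) (hW : IsCompact (W : Set V.toScheme)) :
    ∃ T : ZClos.Cl Z, V.ι ''ᵁ (W ⊓ T'.U) = V.ι ''ᵁ W ⊓ T.U := by
  let C : Set X := V.ι.base '' ((W : Set V.toScheme) ∩ T'.1)
  have hC : IsClosed (Subtype.val ⁻¹' C : Set ((V.ι ''ᵁ W : X.Opens) : Set X)) := by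
    obtain ⟨O, hO, hOeq⟩ := V.ι.isOpenEmbedding.isInducing.isOpen_iff.1 T'.1.isClosed.isOpen_compl
    refine ⟨⟨O, hO, ?_⟩⟩
    ext ⟨x, y, hyW, hxy⟩
    subst hxy
    constructor
    · rintro hO' ⟨z, ⟨hzW, hzT⟩, hz⟩
      obtain rfl := V.ι.isOpenEmbedding.injective hz
      have h1 : z ∈ V.ι.base ⁻¹' O := hO'
      rw [hOeq] at h1
      exact h1 hzT
    · intro h
      have h1 : y ∈ V.ι.base ⁻¹' O := by
        rw [hOeq]
        exact fun hyT => h ⟨y, ⟨hyW, hyT⟩, rfl⟩
      exact h1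
  have hcl := closure_subset_of_isClosed_preimage Z hZ (W := V.ι ''ᵁ W) (hW.image V.ι.continuous) C
    (Set.image_mono Set.inter_subset_left) hC (by rintro _ ⟨y, ⟨-, hy⟩, rfl⟩; exact T'.2 hy)
  refine ⟨⟨⟨closure C, isClosed_closure⟩, hcl⟩, ?_⟩
  ext x
  constructor
  · rintro ⟨y, ⟨hyW, hyT⟩, rfl⟩
    refine ⟨⟨y, hyW, rfl⟩, fun h => ?_⟩
    have h1 : (⟨V.ι.base y, ⟨y, hyW, rfl⟩⟩ : ((V.ι ''ᵁ W : X.Opens) : Set X)) ∈ Subtype.val ⁻¹' C := by
      rw [← hC.closure_eq, Topology.IsInducing.subtypeVal.closure_eq_preimage_closure_image,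
        Subtype.image_preimage_coe]
      have hCW : C ⊆ ((V.ι ''ᵁ W : X.Opens) : Set X) := Set.image_mono Set.inter_subset_left
      exact closure_mono (fun z hz => Set.mem_inter (hCW hz) hz) h
    obtain ⟨z, ⟨-, hzT⟩, hz⟩ := h1
    obtain rfl := V.ι.isOpenEmbedding.injective hz
    exact hyT hzT
  · rintro ⟨⟨y, hyW, rfl⟩, hyT⟩
    exact ⟨y, ⟨hyW, fun h => hyT (subset_closure ⟨y, ⟨hyW, h⟩, rfl⟩)⟩, rfl⟩

/-- Purity through restriction maps. -/
theorem isZPure_iff_injective :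
    ZClos.IsZPure Z F ↔ ∀ (T : ZClos.Cl Z) (V : X.Opens), IsCompact (V : Set X) →
      Function.Injective (F.presheaf.map (homOfLE (inf_le_left : V ⊓ T.U ≤ V)).op) := by
  rw [isZPure_iff]
  refine ⟨fun h T V _ => ?_, fun h T => mono_of_app_injective _ fun V hV =>
    (injective_toDiagram_app_iff Z F T V).2 (h T V hV)⟩
  haveI := h T
  exact (injective_toDiagram_app_iff Z F T V).1 (app_injective_of_mono _ V)

/-- Closedness through restriction maps. -/
theorem isZClosed_iff_bijective :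
    ZClos.IsZClosed Z F ↔ ∀ (T : ZClos.Cl Z) (V : X.Opens), IsCompact (V : Set X) →
      Function.Bijective (F.presheaf.map (homOfLE (inf_le_left : V ⊓ T.U ≤ V)).op) := by
  rw [isZClosed_iff]
  refine ⟨fun h T V _ => ?_, fun h T => isIso_of_app_bijective _ fun V hV =>
    (bijective_toDiagram_app_iff Z F T V).2 (h T V hV)⟩
  haveI := h T
  exact (bijective_toDiagram_app_iff Z F T V).1
    ((ConcreteCategory.isIso_iff_bijective _).1 inferInstance)

lemma isZPure_restrict (hZ : StableUnderSpecialization Z) (h : ZClos.IsZPure Z F) (V : X.Opens) :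
    ZClos.IsZPure (V.ι.base ⁻¹' Z) ((Scheme.Modules.restrictFunctor V.ι).obj F) := by
  haveI : IsLocallyNoetherian V.toScheme := isLocallyNoetherian_of_isOpenImmersion V.ι
  rw [isZPure_iff_injective] at h ⊢
  intro T' W hW
  obtain ⟨T, hT⟩ := exists_cl_image Z hZ V T' W hW
  have h1 := (map_injective_congr F rfl hT
    (V.ι.image_mono inf_le_left : V.ι ''ᵁ (W ⊓ T'.U) ≤ V.ι ''ᵁ W) inf_le_left).2
    (h T _ (hW.image V.ι.continuous))
  exact h1

lemma isZClosed_restrict (hZ : StableUnderSpecialization Z) (h : ZClos.IsZClosed Z F) (V : X.Opens) :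
    ZClos.IsZClosed (V.ι.base ⁻¹' Z) ((Scheme.Modules.restrictFunctor V.ι).obj F) := by
  haveI : IsLocallyNoetherian V.toScheme := isLocallyNoetherian_of_isOpenImmersion V.ι
  rw [isZClosed_iff_bijective] at h ⊢
  intro T' W hW
  obtain ⟨T, hT⟩ := exists_cl_image Z hZ V T' W hW
  have h1 := (map_bijective_congr F rfl hT
    (V.ι.image_mono inf_le_left : V.ι ''ᵁ (W ⊓ T'.U) ≤ V.ι ''ᵁ W) inf_le_left).2
    (h T _ (hW.image V.ι.continuous))
  exact h1

variable {ι : Type u} (V : ι → X.Opens)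

lemma eq_of_pure_cover (hV : iSup V = ⊤)
    (h : ∀ i, ZClos.IsZPure ((V i).ι.base ⁻¹' Z) ((Scheme.Modules.restrictFunctor (V i).ι).obj F))
    (T : ZClos.Cl Z) (W : X.Opens) :
    Function.Injective (F.presheaf.map (homOfLE (inf_le_left : W ⊓ T.U ≤ W)).op) := by
  intro a b hab
  have hab' : ∀ y (hy : y ∈ W ⊓ T.U), F.presheaf.germ W y hy.1 a = F.presheaf.germ W y hy.1 b := fun y hy => by
    have := congrArg (F.presheaf.germ _ y hy) hab
    rwa [TopCat.Presheaf.germ_res_apply, TopCat.Presheaf.germ_res_apply] at this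
  refine TopCat.Presheaf.section_ext ⟨F.presheaf, F.isSheaf⟩ W a b fun x hx => ?_
  obtain ⟨i, hi⟩ := Opens.mem_iSup.1 (show x ∈ iSup V by rw [hV]; trivial)
  haveI : IsLocallyNoetherian (V i).toScheme := isLocallyNoetherian_of_isOpenImmersion (V i).ι
  obtain ⟨_, ⟨(A : X.Opens), hA, rfl⟩, hxA, hAW⟩ :=
    X.isBasis_affineOpens.exists_subset_of_mem_open (show x ∈ (W : Set X) ∩ V i from ⟨hx, hi⟩)
      (W.isOpen.inter (V i).isOpen)
  have hAV : A ≤ (V i).ι.opensRange := by rw [Scheme.Opens.opensRange_ι]; exact fun y hy => (hAW hy).2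
  let A' : (V i).toScheme.Opens := (V i).ι ⁻¹ᵁ A
  have hA' : (V i).ι ''ᵁ A' = A := by
    rw [Scheme.Hom.image_preimage_eq_opensRange_inf, inf_eq_right]; exact hAV
  have hA'c : IsCompact (A' : Set (V i).toScheme) := by
    rw [(V i).ι.isOpenEmbedding.isInducing.isCompact_iff]
    exact (congrArg (fun O : X.Opens => IsCompact (O : Set X)) hA').mpr hA.isCompact
  have h1 := (isZPure_iff_injective _ _).1 (h i) (clPreimage Z (V i) T) A' hA'c
  have h2 := (map_injective_congr F hA'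
    ((image_preimage_inf Z (V i) T (clPreimage Z (V i) T) rfl A').trans (congrArg (· ⊓ T.U) hA'))
    ((V i).ι.image_mono inf_le_left) inf_le_left).1 h1
  have hAW' : A ≤ W := fun y hy => (hAW hy).1
  have h3 : F.presheaf.map (homOfLE hAW').op a = F.presheaf.map (homOfLE hAW').op b := by
    refine h2 (TopCat.Presheaf.section_ext ⟨F.presheaf, F.isSheaf⟩ _ _ _ fun y hy => ?_)
    refine (TopCat.Presheaf.germ_res_apply F.presheaf _ y hy _).trans
      ((TopCat.Presheaf.germ_res_apply F.presheaf _ y _ _).trans ?_)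
    refine Eq.trans ?_ ((TopCat.Presheaf.germ_res_apply F.presheaf _ y hy _).trans
      (TopCat.Presheaf.germ_res_apply F.presheaf _ y _ _)).symm
    exact hab' y ⟨hAW' hy.1, hy.2⟩
  have h4 := congrArg (F.presheaf.germ A x hxA) h3
  rwa [TopCat.Presheaf.germ_res_apply, TopCat.Presheaf.germ_res_apply] at h4

theorem isZPure_iff_openCover (hZ : StableUnderSpecialization Z) (hV : iSup V = ⊤) :
    ZClos.IsZPure Z F ↔
      ∀ i, ZClos.IsZPure ((V i).ι.base ⁻¹' Z) ((Scheme.Modules.restrictFunctor (V i).ι).obj F) :=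
  ⟨fun h i => isZPure_restrict Z F hZ h (V i), fun h =>
    (isZPure_iff_injective Z F).2 fun T W _ => eq_of_pure_cover Z F V hV h T W⟩

theorem isZClosed_iff_openCover (hZ : StableUnderSpecialization Z) (hV : iSup V = ⊤) :
    ZClos.IsZClosed Z F ↔
      ∀ i, ZClos.IsZClosed ((V i).ι.base ⁻¹' Z) ((Scheme.Modules.restrictFunctor (V i).ι).obj F) := by
  refine ⟨fun h i => isZClosed_restrict Z F hZ h (V i), fun h => ?_⟩
  have hp : ∀ i, ZClos.IsZPure ((V i).ι.base ⁻¹' Z) ((Scheme.Modules.restrictFunctor (V i).ι).obj F) :=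
    fun i => by
      haveI hi : IsIso (ZClos.rhoApp _ _) := h i
      exact (inferInstance : Mono (ZClos.rhoApp ((V i).ι.base ⁻¹' Z) ((Scheme.Modules.restrictFunctor (V i).ι).obj F)))
  have hinj := eq_of_pure_cover Z F V hV hp
  rw [isZClosed_iff_bijective]
  intro T W _
  refine ⟨hinj T W, fun t => ?_⟩
  let J := {p : X.affineOpens × ι // (p.1.1 : X.Opens) ≤ W ⊓ V p.2}
  have hcov : W ≤ ⨆ p : J, p.1.1.1 := by
    intro x hx
    obtain ⟨i, hi⟩ := Opens.mem_iSup.1 (show x ∈ iSup V by rw [hV]; trivial)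
    obtain ⟨_, ⟨(A : X.Opens), hA, rfl⟩, hxA, hAW⟩ :=
      X.isBasis_affineOpens.exists_subset_of_mem_open (show x ∈ (W : Set X) ∩ V i from ⟨hx, hi⟩)
        (W.isOpen.inter (V i).isOpen)
    exact Opens.mem_iSup.2 ⟨⟨(⟨A, hA⟩, i), hAW⟩, hxA⟩
  have hloc : ∀ p : J, ∃ s : Γ(F, p.1.1.1),
      F.presheaf.map (homOfLE (inf_le_left : p.1.1.1 ⊓ T.U ≤ p.1.1.1)).op s =
        F.presheaf.map (homOfLE (inf_le_inf_right T.U (p.2.trans inf_le_left) : p.1.1.1 ⊓ T.U ≤ W ⊓ T.U)).op t := by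
    rintro ⟨⟨⟨A, hA⟩, i⟩, hp'⟩
    haveI : IsLocallyNoetherian (V i).toScheme := isLocallyNoetherian_of_isOpenImmersion (V i).ι
    have hAV : A ≤ (V i).ι.opensRange := by rw [Scheme.Opens.opensRange_ι]; exact hp'.trans inf_le_right
    let A' : (V i).toScheme.Opens := (V i).ι ⁻¹ᵁ A
    have hA' : (V i).ι ''ᵁ A' = A := by
      rw [Scheme.Hom.image_preimage_eq_opensRange_inf, inf_eq_right]; exact hAV
    have hA'c : IsCompact (A' : Set (V i).toScheme) := by
      rw [(V i).ι.isOpenEmbedding.isInducing.isCompact_iff]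
      exact (congrArg (fun O : X.Opens => IsCompact (O : Set X)) hA').mpr hA.isCompact
    have h1 := (isZClosed_iff_bijective _ _).1 (h i) (clPreimage Z (V i) T) A' hA'c
    exact ((map_bijective_congr F hA'
      ((image_preimage_inf Z (V i) T (clPreimage Z (V i) T) rfl A').trans (congrArg (· ⊓ T.U) hA'))
      ((V i).ι.image_mono inf_le_left) inf_le_left).1 h1).2 _
  choose s hs using hloc
  obtain ⟨u, hu, -⟩ := TopCat.Sheaf.existsUnique_gluing' ⟨F.presheaf, F.isSheaf⟩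
    (fun p : J => p.1.1.1) W (fun p => homOfLE (p.2.trans inf_le_left)) hcov s (fun p q => by
      refine hinj T _ (TopCat.Presheaf.section_ext ⟨F.presheaf, F.isSheaf⟩ _ _ _ fun y hy => ?_)
      refine (TopCat.Presheaf.germ_res_apply F.presheaf _ y hy _).trans
        ((TopCat.Presheaf.germ_res_apply F.presheaf _ y _ _).trans ?_)
      refine Eq.trans ?_ ((TopCat.Presheaf.germ_res_apply F.presheaf _ y hy _).trans
        (TopCat.Presheaf.germ_res_apply F.presheaf _ y _ _)).symm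
      have e1 := congrArg (F.presheaf.germ _ y (show y ∈ p.1.1.1 ⊓ T.U from ⟨hy.1.1, hy.2⟩)) (hs p)
      have e2 := congrArg (F.presheaf.germ _ y (show y ∈ q.1.1.1 ⊓ T.U from ⟨hy.1.2, hy.2⟩)) (hs q)
      rw [TopCat.Presheaf.germ_res_apply, TopCat.Presheaf.germ_res_apply] at e1 e2
      exact e1.trans e2.symm)
  refine ⟨u, TopCat.Presheaf.section_ext ⟨F.presheaf, F.isSheaf⟩ _ _ _ fun y hy => ?_⟩
  obtain ⟨p, hp''⟩ := Opens.mem_iSup.1 (hcov hy.1)
  refine (TopCat.Presheaf.germ_res_apply F.presheaf _ y hy _).trans ?_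
  rw [← TopCat.Presheaf.germ_res_apply F.presheaf (homOfLE (p.2.trans inf_le_left)) y hp'' u]
  refine (congrArg _ (hu p)).trans ?_
  have e1 := congrArg (F.presheaf.germ _ y (show y ∈ p.1.1.1 ⊓ T.U from ⟨hp'', hy.2⟩)) (hs p)
  rw [TopCat.Presheaf.germ_res_apply, TopCat.Presheaf.germ_res_apply] at e1
  exact e1

end Groth.Agent.ZClosLib
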