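import Groth.Agent.ZClosLib.Basic

/-!
# The `Z`-closure: stalks, supports, closedness
-/

set_option autoImplicit false
set_option linter.style.haveILetI false

noncomputable section

universe u

open CategoryTheory CategoryTheory.Limits AlgebraicGeometry TopologicalSpace Opposite

namespace Groth.Agent.ZClosLib

variable {X : Scheme.{u}} (Z : Set X) (F : X.Modules)

/-- The trace on the complement of `T`. -/
abbrev tr {Z : Set X} (T : ZClos.Cl Z) (V : X.Opens) : X.Opens := T.U.ι ''ᵁ T.U.ι ⁻¹ᵁ V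

lemma mem_tr {T : ZClos.Cl Z} {V : X.Opens} {x : X} : x ∈ tr T V ↔ x ∈ V ∧ x ∈ T.U := by
  rw [tr, ι_image_preimage_le]
  exact Iff.rfl

lemma mem_U_of_notMem (T : ZClos.Cl Z) {x : X} (hx : x ∉ Z) : x ∈ T.U := fun h => hx (T.2 h)

lemma tr_mono {T : ZClos.Cl Z} {V W : X.Opens} (h : W ≤ V) : tr T W ≤ tr T V := fun _ hx =>
  (mem_tr Z).2 ⟨h ((mem_tr Z).1 hx).1, ((mem_tr Z).1 hx).2⟩

lemma res_comp₂ (M : X.Modules) {A B C : X.Opens} (a : B ⟶ A) (b : C ⟶ B) (c : C ⟶ A) (s : Γ(M, A)) :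
    M.presheaf.map b.op (M.presheaf.map a.op s) = M.presheaf.map c.op s := by
  rw [← ConcreteCategory.comp_apply, ← Functor.map_comp]
  rfl

lemma res_comp₃ (M : X.Modules) {A B C D : X.Opens} (a : B ⟶ A) (b : C ⟶ B) (c : D ⟶ C) (d : D ⟶ A)
    (s : Γ(M, A)) :
    M.presheaf.map c.op (M.presheaf.map b.op (M.presheaf.map a.op s)) = M.presheaf.map d.op s := by
  rw [res_comp₂ M a b (b ≫ a) s, res_comp₂ M (b ≫ a) c d s]

lemma germ_eq_of_map_eq {M : X.Modules} {U V W : X.Opens} (hU : W ≤ U) (hV : W ≤ V) {x : X}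
    (hx : x ∈ W) (s : Γ(M, U)) (t : Γ(M, V))
    (h : M.presheaf.map (homOfLE hU).op s = M.presheaf.map (homOfLE hV).op t) :
    M.presheaf.germ U x (hU hx) s = M.presheaf.germ V x (hV hx) t := by
  rw [← TopCat.Presheaf.germ_res_apply M.presheaf (homOfLE hU) x hx s,
    ← TopCat.Presheaf.germ_res_apply M.presheaf (homOfLE hV) x hx t]
  exact congrArg _ h

lemma eq_zero_of_germ {M : X.Modules} {V : X.Opens} (s : Γ(M, V))
    (h : ∀ x (hx : x ∈ V), M.presheaf.germ V x hx s = 0) : s = 0 :=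
  TopCat.Presheaf.section_ext ⟨M.presheaf, M.isSheaf⟩ V s 0 fun x hx =>
    (h x hx).trans (map_zero _).symm

lemma rhoStalk_germ (V : X.Opens) (x : X) (hx : x ∈ V) (s : Γ(F, V)) :
    ZClos.rhoStalk Z F x (F.presheaf.germ V x hx s) =
      ((ZClos.H0 Z).obj F).presheaf.germ V x hx ((ZClos.rhoApp Z F).app V s) :=
  TopCat.Presheaf.stalkFunctor_map_germ_apply V x hx (ZClos.rhoApp Z F).mapPresheaf s

lemma germ_restrict {T : ZClos.Cl Z} {V : X.Opens} {x : X} (hx : x ∈ tr T V) (s : Γ(F, V)) :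
    F.presheaf.germ (tr T V) x hx ((ZClos.toDiagram Z F T).app V s) =
      F.presheaf.germ V x ((mem_tr Z).1 hx).1 s :=
  TopCat.Presheaf.germ_res_apply F.presheaf (homOfLE (T.U.ι.image_preimage_le V)) x hx s

lemma map_tr_apply {T T' : ZClos.Cl Z} (g : T ⟶ T') (V : X.Opens) (u : Γ(F, tr T V)) :
    (((ZClos.diagram Z).obj F).map g).app V u =
      F.presheaf.map (ZClos.trIncl (ZClos.Cl.U_anti g.le) V).op u := by
  change (ZClos.resPushMapApp (ZClos.Cl.U_anti g.le) F).app V u = _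
  rw [ZClos.resPushMapApp_app]
  rfl

variable [IsLocallyNoetherian X]

/-- A subset of `Z` which is closed in a quasi-compact open has closure in `Z`. -/
theorem closure_subset_of_isClosed_preimage (hZ : StableUnderSpecialization Z) {W : X.Opens}
    (hW : IsCompact (W : Set X)) (C : Set X) (hCW : C ⊆ W)
    (hC : IsClosed (Subtype.val ⁻¹' C : Set (W : Set X))) (hCZ : C ⊆ Z) : closure C ⊆ Z := by
  haveI : CompactSpace W.toScheme := isCompact_iff_compactSpace.mp hW
  haveI : IsLocallyNoetherian W.toScheme := isLocallyNoetherian_of_isOpenImmersion W.ι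
  haveI : IsNoetherian W.toScheme := {}
  haveI : NoetherianSpace (W : Set X) := (inferInstance : NoetherianSpace W.toScheme)
  obtain ⟨S, hSf, hScl, hSirr, hSeq⟩ := NoetherianSpace.exists_finite_set_isClosed_irreducible hC
  have hC' : C = ⋃ t ∈ S, Subtype.val '' t := by
    rw [← Set.image_iUnion₂, ← Set.sUnion_eq_biUnion, ← hSeq, Subtype.image_preimage_coe,
      Set.inter_eq_right.2 hCW]
  rw [hC', hSf.closure_biUnion]
  intro z hz
  obtain ⟨t, htS, hzt⟩ := Set.mem_iUnion₂.1 hz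
  have hirr : IsIrreducible (Subtype.val '' t : Set X) :=
    (hSirr t htS).image _ continuous_subtype_val.continuousOn
  obtain ⟨η, hη⟩ := QuasiSober.sober hirr.closure isClosed_closure
  obtain ⟨⟨w, hwW⟩, hw⟩ := (hSirr t htS).nonempty
  have hηW : η ∈ W := (hη.specializes (subset_closure ⟨_, hw, rfl⟩)).mem_open W.isOpen hwW
  have hηt : (⟨η, hηW⟩ : (W : Set X)) ∈ t := by
    rw [← (hScl t htS).closure_eq, Topology.IsInducing.subtypeVal.closure_eq_preimage_closure_image]
    exact hη.mem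
  refine hZ (hη.specializes hzt) (hCZ ?_)
  rw [hC']
  exact Set.mem_biUnion htS ⟨_, hηt, rfl⟩

/-- A section with germs vanishing off `Z` vanishes off some closed subset of `Z`. -/
theorem exists_cl_of_germ_eq_zero (hZ : StableUnderSpecialization Z) {W : X.Opens}
    (hW : IsCompact (W : Set X)) (s : Γ(F, W))
    (h : ∀ x (hx : x ∈ W), x ∉ Z → F.presheaf.germ W x hx s = 0) :
    ∃ T : ZClos.Cl Z, ∀ x (hx : x ∈ W), x ∈ T.U → F.presheaf.germ W x hx s = 0 := by
  let C : Set X := {x | ∃ hx : x ∈ W, F.presheaf.germ W x hx s ≠ 0}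
  have hC : IsClosed (Subtype.val ⁻¹' C : Set (W : Set X)) := by
    refine ⟨isOpen_iff_forall_mem_open.2 fun x hx => ?_⟩
    have h0 : F.presheaf.germ W x.1 x.2 s = F.presheaf.germ W x.1 x.2 0 := by
      rw [map_zero]
      by_contra hne
      exact hx ⟨x.2, hne⟩
    obtain ⟨N, hxN, i₁, i₂, hN⟩ := TopCat.Presheaf.germ_eq F.presheaf x.1 x.2 x.2 _ _ h0
    rw [map_zero] at hN
    refine ⟨Subtype.val ⁻¹' (N : Set X), ?_, N.isOpen.preimage continuous_subtype_val, hxN⟩
    rintro y hy ⟨hyW, hne⟩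
    apply hne
    rw [← TopCat.Presheaf.germ_res_apply F.presheaf i₁ y.1 hy s, hN, map_zero]
  have hcl := closure_subset_of_isClosed_preimage Z hZ hW C (fun x hx => hx.1) hC
    (fun x ⟨hx, hne⟩ => by
      by_contra hxZ
      exact hne (h x hx hxZ))
  refine ⟨⟨⟨closure C, isClosed_closure⟩, hcl⟩, fun x hx hxU => ?_⟩
  by_contra hne
  exact hxU (subset_closure (⟨hx, hne⟩ : x ∈ C))

/-- `Z`-closures are closed. -/
theorem isZClosed_H0 : ZClos.IsZClosed Z ((ZClos.H0 Z).obj F) := by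
  rw [isZClosed_iff]
  refine fun T => isIso_of_app_bijective _ fun V hV => ⟨?_, fun t => ?_⟩
  · rw [injective_iff_map_eq_zero]
    intro t ht
    obtain ⟨T', u, rfl⟩ := ModColimLib.exists_rep (colimit.isColimit ((ZClos.diagram Z).obj F)) hV t
    let ψ := ((ZClos.diagram Z).obj F).obj T'
    have h0 : (colimit.ι ((ZClos.diagram Z).obj F) T').app (tr T V)
        (ψ.presheaf.map (homOfLE (T.U.ι.image_preimage_le V)).op u) = 0 :=
      (ConcreteCategory.congr_hom ((colimit.ι ((ZClos.diagram Z).obj F) T').mapPresheaf.naturality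
        (homOfLE (T.U.ι.image_preimage_le V)).op) u).trans ht
    obtain ⟨T'', g, hg⟩ := ModColimLib.exists_map_eq_zero (colimit.isColimit ((ZClos.diagram Z).obj F))
      (isCompact_image_preimage T.U V hV) _ h0
    rw [map_tr_apply] at hg
    let R := T ⊔ T''
    have hR : T' ≤ R := g.le.trans le_sup_right
    change (colimit.ι ((ZClos.diagram Z).obj F) T').app V u = 0
    rw [← colimit.w ((ZClos.diagram Z).obj F) (homOfLE hR), Scheme.Modules.Hom.comp_app,
      ConcreteCategory.comp_apply]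
    refine (congrArg _ ?_).trans (map_zero _)
    rw [map_tr_apply]
    have hle : tr R V ≤ tr T'' (tr T V) := fun x hx =>
      (mem_tr Z).2 ⟨(mem_tr Z).2 ⟨((mem_tr Z).1 hx).1, ZClos.Cl.U_anti (le_sup_left : T ≤ R) ((mem_tr Z).1 hx).2⟩,
        ZClos.Cl.U_anti (le_sup_right : T'' ≤ R) ((mem_tr Z).1 hx).2⟩
    have h2 := congrArg (F.presheaf.map (homOfLE hle).op) hg
    refine Eq.trans ?_ (h2.trans (map_zero _))
    exact (res_comp₃ F (T'.U.ι.opensFunctor.map ((Opens.map T'.U.ι.base).map (homOfLE (T.U.ι.image_preimage_le V))))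
      (ZClos.trIncl (ZClos.Cl.U_anti g.le) (tr T V)) (homOfLE hle) (ZClos.trIncl (ZClos.Cl.U_anti hR) V)
      (show Γ(F, tr T' V) from u)).symm
  · obtain ⟨T', u', hu'⟩ := ModColimLib.exists_rep (colimit.isColimit ((ZClos.diagram Z).obj F))
      (isCompact_image_preimage T.U V hV) (show Γ((ZClos.H0 Z).obj F, tr T V) from t)
    let R := T ⊔ T'
    have hle : tr R V ≤ tr T' (tr T V) := fun x hx =>
      (mem_tr Z).2 ⟨(mem_tr Z).2 ⟨((mem_tr Z).1 hx).1, ZClos.Cl.U_anti (le_sup_left : T ≤ R) ((mem_tr Z).1 hx).2⟩,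
        ZClos.Cl.U_anti (le_sup_right : T' ≤ R) ((mem_tr Z).1 hx).2⟩
    refine ⟨(colimit.ι ((ZClos.diagram Z).obj F) R).app V
      (show Γ(F, tr R V) from F.presheaf.map (homOfLE hle).op u'), ?_⟩
    refine Eq.trans ?_ hu'
    refine (ConcreteCategory.congr_hom ((colimit.ι ((ZClos.diagram Z).obj F) R).mapPresheaf.naturality
        (homOfLE (T.U.ι.image_preimage_le V)).op) _).symm.trans ?_
    change _ = (colimit.ι ((ZClos.diagram Z).obj F) T').app (tr T V) u'
    rw [← colimit.w ((ZClos.diagram Z).obj F) (homOfLE (le_sup_right : T' ≤ R)),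
      Scheme.Modules.Hom.comp_app ((((ZClos.diagram Z).obj F)).map _), ConcreteCategory.comp_apply]
    refine congrArg _ ?_
    refine Eq.trans ?_ (map_tr_apply Z F (homOfLE (le_sup_right : T' ≤ R)) (tr T V) u').symm
    exact res_comp₂ F (homOfLE hle)
      (R.U.ι.opensFunctor.map ((Opens.map R.U.ι.base).map (homOfLE (T.U.ι.image_preimage_le V))))
      (ZClos.trIncl (ZClos.Cl.U_anti (le_sup_right : T' ≤ R)) (tr T V)) (show Γ(F, tr T' (tr T V)) from u')

/-- Off `Z` every module is closed. -/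
theorem isZClosedAt_of_notMem (x : X) (hx : x ∉ Z) : ZClos.IsZClosedAt Z F x := by
  refine ⟨?_, fun w => ?_⟩
  · rw [injective_iff_map_eq_zero]
    intro z hz
    obtain ⟨V, hxV, s, rfl⟩ := TopCat.Presheaf.exists_germ_eq F.presheaf z
    rw [rhoStalk_germ] at hz
    obtain ⟨W₀, hxW₀, i₁, i₂, hW₀⟩ := TopCat.Presheaf.germ_eq _ x hxV hxV _ _
      (hz.trans (map_zero (((ZClos.H0 Z).obj F).presheaf.germ V x hxV).hom).symm)
    rw [map_zero] at hW₀
    obtain ⟨_, ⟨(W : X.Opens), hW, rfl⟩, hxW, hWW₀⟩ :=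
      X.isBasis_affineOpens.exists_subset_of_mem_open hxW₀ W₀.isOpen
    have hWV : W ≤ V := le_trans hWW₀ i₁.le
    have h0 : (ZClos.rhoApp Z F).app W (F.presheaf.map (homOfLE hWV).op s) = 0 := by
      refine (ConcreteCategory.congr_hom ((ZClos.rhoApp Z F).mapPresheaf.naturality (homOfLE hWV).op) s).trans ?_
      have h1 := congrArg (((ZClos.H0 Z).obj F).presheaf.map (homOfLE (show W ≤ W₀ from hWW₀)).op) hW₀
      rw [map_zero] at h1
      refine Eq.trans ?_ h1
      change ((ZClos.H0 Z).obj F).presheaf.map _ _ = _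
      rw [← ConcreteCategory.comp_apply, ← Functor.map_comp]
      rfl
    rw [rho_app_apply Z F ⊥] at h0
    obtain ⟨T, g, hT⟩ :=
      ModColimLib.exists_map_eq_zero (colimit.isColimit ((ZClos.diagram Z).obj F)) hW.isCompact _ h0
    rw [map_toDiagram_apply] at hT
    have hxT : x ∈ tr T W := (mem_tr Z).2 ⟨hxW, mem_U_of_notMem Z T hx⟩
    have h2 := germ_restrict Z F hxT (F.presheaf.map (homOfLE hWV).op s)
    rw [TopCat.Presheaf.germ_res_apply F.presheaf (homOfLE hWV) x hxW s] at h2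
    exact h2.symm.trans ((congrArg (F.presheaf.germ (tr T W) x hxT) hT).trans (map_zero _))
  · obtain ⟨V, hxV, t, rfl⟩ := TopCat.Presheaf.exists_germ_eq ((ZClos.H0 Z).obj F).presheaf w
    obtain ⟨_, ⟨(W : X.Opens), hW, rfl⟩, hxW, hWV⟩ :=
      X.isBasis_affineOpens.exists_subset_of_mem_open hxV V.isOpen
    obtain ⟨T, u, hu⟩ := ModColimLib.exists_rep (colimit.isColimit ((ZClos.diagram Z).obj F)) hW.isCompact
      (((ZClos.H0 Z).obj F).presheaf.map (homOfLE (show W ≤ V from hWV)).op t)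
    have hxT : x ∈ tr T W := (mem_tr Z).2 ⟨hxW, mem_U_of_notMem Z T hx⟩
    refine ⟨F.presheaf.germ (tr T W) x hxT u, ?_⟩
    rw [rhoStalk_germ Z F (tr T W) x hxT (show Γ(F, tr T W) from u),
      ← TopCat.Presheaf.germ_res_apply _ (homOfLE (show W ≤ V from hWV)) x hxW t, ← hu]
    refine Eq.trans ?_ (TopCat.Presheaf.germ_res_apply _ (homOfLE (T.U.ι.image_preimage_le W)) x hxT _)
    refine congrArg _ ?_
    rw [rho_app_apply Z F T]
    exact ConcreteCategory.congr_hom ((colimit.ι ((ZClos.diagram Z).obj F) T).mapPresheaf.naturality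
      (homOfLE (T.U.ι.image_preimage_le W)).op) u

/-- The `Z`-closure vanishes iff the stalks off `Z` vanish. -/
theorem isZero_H0_iff (hZ : StableUnderSpecialization Z) :
    IsZero ((ZClos.H0 Z).obj F) ↔ ∀ x : X, x ∉ Z → Subsingleton (F.presheaf.stalk x) := by
  constructor
  · intro h x hx
    have hb := isZClosedAt_of_notMem Z F x hx
    refine ⟨fun a b => hb.1 ?_⟩
    haveI : Subsingleton (((ZClos.H0 Z).obj F).presheaf.stalk x) := by
      refine subsingleton_of_forall_eq 0 fun w => ?_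
      obtain ⟨V, hxV, t, rfl⟩ := TopCat.Presheaf.exists_germ_eq ((ZClos.H0 Z).obj F).presheaf w
      have h1 : t = 0 :=
        congrArg (fun φ : (ZClos.H0 Z).obj F ⟶ (ZClos.H0 Z).obj F => φ.app V t) ((IsZero.iff_id_eq_zero _).1 h)
      rw [h1, map_zero]
    exact Subsingleton.elim _ _
  · intro h
    refine (IsZero.iff_id_eq_zero _).2 (colimit.hom_ext fun T => ?_)
    refine (Category.comp_id _).trans (Eq.trans ?_ comp_zero.symm)
    ext V s
    change (colimit.ι ((ZClos.diagram Z).obj F) T).app V s = 0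
    refine eq_zero_of_germ _ fun x hxV => ?_
    obtain ⟨_, ⟨(W : X.Opens), hW, rfl⟩, hxW, hWV⟩ :=
      X.isBasis_affineOpens.exists_subset_of_mem_open hxV V.isOpen
    have hWV' : W ≤ V := hWV
    let s' := (((ZClos.diagram Z).obj F).obj T).presheaf.map (homOfLE hWV').op s
    obtain ⟨T', hT'⟩ := exists_cl_of_germ_eq_zero Z F hZ (isCompact_image_preimage T.U W hW.isCompact)
      (show Γ(F, tr T W) from s') (fun y _ hyZ => by
        haveI := h y hyZ
        exact Subsingleton.elim _ _)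
    rw [← TopCat.Presheaf.germ_res_apply _ (homOfLE hWV') x hxW,
      show ((colimit ((ZClos.diagram Z).obj F)).presheaf.map (homOfLE hWV').op)
          ((colimit.ι ((ZClos.diagram Z).obj F) T).app V s) =
        (colimit.ι ((ZClos.diagram Z).obj F) T).app W s' from
        (ConcreteCategory.congr_hom ((colimit.ι ((ZClos.diagram Z).obj F) T).mapPresheaf.naturality _) s).symm,
      ← colimit.w ((ZClos.diagram Z).obj F) (homOfLE (le_sup_left : T ≤ T ⊔ T')),
      Scheme.Modules.Hom.comp_app, ConcreteCategory.comp_apply]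
    refine (congrArg _ ((congrArg _ ?_).trans (map_zero _))).trans (map_zero _)
    rw [map_tr_apply]
    refine eq_zero_of_germ (M := F) _ fun y hy => ?_
    refine (TopCat.Presheaf.germ_res_apply F.presheaf _ y hy _).trans ?_
    exact hT' y _ (ZClos.Cl.U_anti (le_sup_right : T' ≤ T ⊔ T') ((mem_tr Z).1 hy).2)

end Groth.Agent.ZClosLib

namespace Groth.Agent.ZClosLib

variable {X : Scheme.{u}} (Z : Set X) (F : X.Modules)

/-- A map out of the closure, read through the units of a closed target. -/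
lemma ι_comp_toDiagram (F' : X.Modules) (u : F ⟶ F') (v : (ZClos.H0 Z).obj F ⟶ F')
    (hv : ZClos.rhoApp Z F ≫ v = u) (T : ZClos.Cl Z) :
    (colimit.ι ((ZClos.diagram Z).obj F) T ≫ v) ≫ ZClos.toDiagram Z F' T =
      ((ZClos.diagram Z).map u).app T := by
  rw [ZClos.toDiagram_naturality]
  have h2 : ZClos.toDiagram Z F T ≫ colimit.ι ((ZClos.diagram Z).obj F) T ≫ v = u :=
    (Category.assoc _ _ _).symm.trans ((congrArg (· ≫ v) (ZClos.rhoApp_eq Z F T).symm).trans hv)
  change (ZClos.resPushUnit T.U).app ((ZClos.resPush T.U).obj F) ≫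
    (ZClos.resPush T.U).map (colimit.ι ((ZClos.diagram Z).obj F) T ≫ v) = (ZClos.resPush T.U).map u
  rw [← h2, Functor.map_comp (ZClos.resPush T.U) (ZClos.toDiagram Z F T)]
  refine congrArg (· ≫ _) ?_
  ext V : 1
  change _ = ((ZClos.resPush T.U).map ((ZClos.resPushUnit T.U).app F)).app V
  rw [ZClos.resPush_map_app, ZClos.resPushUnit_app_app, ZClos.resPushUnit_app_app,
    ZClos.resPush_presheaf_map]
  exact congrArg F.presheaf.map (Subsingleton.elim _ _)

variable [IsLocallyNoetherian X]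

/-- A map to a closed module which is bijective on stalks off `Z` identifies it with the closure. -/
theorem isIso_fac (hZ : StableUnderSpecialization Z) (F' : X.Modules) (hF' : ZClos.IsZClosed Z F')
    (u : F ⟶ F')
    (hu : ∀ x : X, x ∉ Z →
      Function.Bijective ((TopCat.Presheaf.stalkFunctor (C := Ab.{u}) x).map u.mapPresheaf))
    (v : (ZClos.H0 Z).obj F ⟶ F') (hv : ZClos.rhoApp Z F ≫ v = u) : IsIso v := by
  classical
  have hi := (isZClosed_iff Z F').1 hF'
  have hgerm : ∀ (W : X.Opens) (x : X) (hx : x ∈ W) (s : Γ(F, W)),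
      (TopCat.Presheaf.stalkFunctor (C := Ab.{u}) x).map u.mapPresheaf (F.presheaf.germ W x hx s) =
        F'.presheaf.germ W x hx (u.app W s) :=
    fun W x hx s => TopCat.Presheaf.stalkFunctor_map_germ_apply W x hx u.mapPresheaf s
  have hzero : ∀ (W : X.Opens) (s : Γ(F, W)), u.app W s = 0 →
      ∀ x (hx : x ∈ W), x ∉ Z → F.presheaf.germ W x hx s = 0 := by
    intro W s hs x hx hxZ
    refine (hu x hxZ).1 ?_
    refine (hgerm W x hx s).trans ?_
    rw [hs, map_zero]
    exact (map_zero _).symm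
  refine isIso_of_app_bijective _ fun V hV => ⟨?_, fun t' => ?_⟩
  · rw [injective_iff_map_eq_zero]
    intro t ht
    obtain ⟨T, u0, rfl⟩ := ModColimLib.exists_rep (colimit.isColimit ((ZClos.diagram Z).obj F)) hV t
    have h0 : u.app (tr T V) u0 = 0 := by
      refine (ConcreteCategory.congr_hom
        (congrArg (fun φ => Scheme.Modules.Hom.app φ V) (ι_comp_toDiagram Z F F' u v hv T)) u0).symm.trans ?_
      change (ZClos.toDiagram Z F' T).app V (v.app V ((colimit.ι ((ZClos.diagram Z).obj F) T).app V u0)) = 0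
      exact (congrArg _ ht).trans (map_zero _)
    obtain ⟨T', hT'⟩ := exists_cl_of_germ_eq_zero Z F hZ (isCompact_image_preimage T.U V hV)
      (show Γ(F, tr T V) from u0) (hzero _ _ h0)
    change (colimit.ι ((ZClos.diagram Z).obj F) T).app V u0 = 0
    rw [← colimit.w ((ZClos.diagram Z).obj F) (homOfLE (le_sup_left : T ≤ T ⊔ T')),
      Scheme.Modules.Hom.comp_app, ConcreteCategory.comp_apply]
    refine (congrArg _ ?_).trans (map_zero _)
    rw [map_tr_apply]
    refine eq_zero_of_germ (M := F) _ fun y hy => ?_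
    refine (TopCat.Presheaf.germ_res_apply F.presheaf _ y hy _).trans ?_
    exact hT' y _ (ZClos.Cl.U_anti (le_sup_right : T' ≤ T ⊔ T') ((mem_tr Z).1 hy).2)
  · have hloc : ∀ x : {x : X // x ∈ V ∧ x ∉ Z}, ∃ (W : X.Opens) (hW : W ≤ V) (s : Γ(F, W)),
        x.1 ∈ W ∧ IsCompact (W : Set X) ∧ u.app W s = F'.presheaf.map (homOfLE hW).op t' := by
      rintro ⟨x, hxV, hxZ⟩
      obtain ⟨z, hz⟩ := (hu x hxZ).2 (F'.presheaf.germ V x hxV t')
      obtain ⟨W₀, hxW₀, s₀, rfl⟩ := TopCat.Presheaf.exists_germ_eq F.presheaf z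
      rw [hgerm] at hz
      obtain ⟨W₁, hxW₁, i₁, i₂, hW₁⟩ := TopCat.Presheaf.germ_eq F'.presheaf x hxW₀ hxV _ _ hz
      obtain ⟨_, ⟨(W : X.Opens), hW, rfl⟩, hxW, hWW₁⟩ :=
        X.isBasis_affineOpens.exists_subset_of_mem_open hxW₁ W₁.isOpen
      refine ⟨W, le_trans hWW₁ i₂.le, F.presheaf.map (homOfLE (le_trans hWW₁ i₁.le)).op s₀,
        hxW, hW.isCompact, ?_⟩
      refine (ConcreteCategory.congr_hom (u.mapPresheaf.naturality _) s₀).trans ?_
      have h1 := congrArg (F'.presheaf.map (homOfLE (show W ≤ W₁ from hWW₁)).op) hW₁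
      exact ((res_comp₂ F' _ _ _ _).symm.trans h1).trans (res_comp₂ F' _ _ _ _)
    choose W hW s hxW hWc hs using hloc
    let G : X.Opens := ⨆ x, W x
    have hGV : G ≤ V := iSup_le hW
    have hGc : IsCompact (G : Set X) := by
      have h1 := isCompact_image_preimage G V hV
      rwa [ZClos.ι_image_preimage, inf_eq_left.2 hGV] at h1
    obtain ⟨S, hS⟩ := hGc.elim_finite_subcover (fun x => (W x : Set X)) (fun x => (W x).isOpen)
      (fun y hy => by
        obtain ⟨x, hx⟩ := Opens.mem_iSup.1 hy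
        exact Set.mem_iUnion.2 ⟨x, hx⟩)
    -- the complement of `G` in `V`
    have hcl : closure ((V : Set X) \ G) ⊆ Z :=
      closure_subset_of_isClosed_preimage Z hZ hV _ Set.sdiff_subset
        (by
          have h1 : (Subtype.val ⁻¹' ((V : Set X) \ G) : Set (V : Set X)) = (Subtype.val ⁻¹' (G : Set X))ᶜ := by
            ext y; simp [y.2]
          rw [h1]
          exact (G.isOpen.preimage continuous_subtype_val).isClosed_compl)
        (fun y hy => by
          by_contra hyZ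
          exact hy.2 (Opens.mem_iSup.2 ⟨⟨y, hy.1, hyZ⟩, hxW _⟩))
    let T₀ : ZClos.Cl Z := ⟨⟨closure ((V : Set X) \ G), isClosed_closure⟩, hcl⟩
    -- the differences
    have hd : ∀ p : S × S, ∃ T : ZClos.Cl Z, ∀ y (hy₁ : y ∈ W p.1.1) (hy₂ : y ∈ W p.2.1), y ∈ T.U →
        F.presheaf.germ (W p.1.1) y hy₁ (s p.1.1) = F.presheaf.germ (W p.2.1) y hy₂ (s p.2.1) := by
      rintro ⟨⟨a, ha⟩, ⟨b, hb⟩⟩
      let d : Γ(F, W a ⊓ W b) := F.presheaf.map (homOfLE (inf_le_left : W a ⊓ W b ≤ W a)).op (s a) -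
        F.presheaf.map (homOfLE (inf_le_right : W a ⊓ W b ≤ W b)).op (s b)
      have hd0 : u.app _ d = 0 := by
        simp only [d, map_sub, sub_eq_zero]
        refine (ConcreteCategory.congr_hom (u.mapPresheaf.naturality _) (s a)).trans ?_
        refine Eq.trans ?_ (ConcreteCategory.congr_hom (u.mapPresheaf.naturality _) (s b)).symm
        refine (congrArg _ (hs a)).trans ?_
        refine Eq.trans ?_ (congrArg _ (hs b)).symm
        exact ModColimLib.res_res F' _ _ _ _ t'
      obtain ⟨T, hT⟩ := exists_cl_of_germ_eq_zero Z F hZ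
        ((hWc a).inter_of_isOpen (hWc b) (W a).isOpen (W b).isOpen) d (hzero _ _ hd0)
      refine ⟨T, fun y hy₁ hy₂ hyT => ?_⟩
      have h1 := hT y ⟨hy₁, hy₂⟩ hyT
      simp only [d, map_sub, sub_eq_zero] at h1
      rwa [TopCat.Presheaf.germ_res_apply, TopCat.Presheaf.germ_res_apply] at h1
    choose Tp hTp using hd
    let T : ZClos.Cl Z := T₀ ⊔ Finset.univ.sup Tp
    have hTp' : ∀ p y, y ∈ T.U → y ∈ (Tp p).U := fun p y hy =>
      ZClos.Cl.U_anti (le_sup_of_le_right (Finset.le_sup (Finset.mem_univ p))) hy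
    have hG' : tr T V ≤ ⨆ x : S, W x.1 ⊓ tr T V := by
      intro y hy
      have hyG : y ∈ G := by
        by_contra hyG
        exact ZClos.Cl.U_anti (le_sup_left : T₀ ≤ T) ((mem_tr Z).1 hy).2
          (subset_closure ⟨((mem_tr Z).1 hy).1, hyG⟩)
      obtain ⟨x, hx, hyx⟩ := Set.mem_iUnion₂.1 (hS hyG)
      exact Opens.mem_iSup.2 ⟨⟨x, hx⟩, hyx, hy⟩
    obtain ⟨u1, hu1, -⟩ := TopCat.Sheaf.existsUnique_gluing' ⟨F.presheaf, F.isSheaf⟩
      (fun x : S => W x.1 ⊓ tr T V) (tr T V) (fun x => homOfLE inf_le_right) hG'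
      (fun x => F.presheaf.map (homOfLE (inf_le_left : W x.1 ⊓ tr T V ≤ W x.1)).op (s x.1))
      (fun a b => by
        refine TopCat.Presheaf.section_ext ⟨F.presheaf, F.isSheaf⟩ _ _ _ fun y hy => ?_
        refine (TopCat.Presheaf.germ_res_apply F.presheaf _ y hy _).trans
          ((TopCat.Presheaf.germ_res_apply F.presheaf _ y _ _).trans ?_)
        refine Eq.trans ?_ ((TopCat.Presheaf.germ_res_apply F.presheaf _ y hy _).trans
          (TopCat.Presheaf.germ_res_apply F.presheaf _ y _ _)).symm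
        exact hTp (a, b) y hy.1.1 hy.2.1 (hTp' (a, b) y ((mem_tr Z).1 hy.1.2).2))
    refine ⟨(colimit.ι ((ZClos.diagram Z).obj F) T).app V u1, ?_⟩
    haveI := hi T
    refine (ConcreteCategory.bijective_of_isIso ((ZClos.toDiagram Z F' T).app V)).1 ?_
    refine (ConcreteCategory.congr_hom
      (congrArg (fun φ => Scheme.Modules.Hom.app φ V) (ι_comp_toDiagram Z F F' u v hv T)) u1).trans ?_
    change u.app (tr T V) u1 = F'.presheaf.map (homOfLE (T.U.ι.image_preimage_le V)).op t'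
    refine TopCat.Sheaf.eq_of_locally_eq' ⟨F'.presheaf, F'.isSheaf⟩
      (fun x : S => W x.1 ⊓ tr T V) (tr T V) (fun x => homOfLE inf_le_right) hG' _ _ fun x => ?_
    refine (ConcreteCategory.congr_hom (u.mapPresheaf.naturality _) u1).symm.trans ?_
    refine (congrArg _ (hu1 x)).trans ?_
    refine (ConcreteCategory.congr_hom (u.mapPresheaf.naturality _) (s x.1)).trans ?_
    exact (congrArg _ (hs x.1)).trans (ModColimLib.res_res F' _ _ _ _ t')

end Groth.Agent.ZClosLib
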