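import Groth.Agent.ZClosLib.Depth
import Groth.Agent.ZClosLib.Local
import Groth.Agent.Depth.LocalIneq
import Mathlib.RingTheory.Ideal.Height

/-!
# Consequences of coherence of the closure
-/

set_option autoImplicit false
set_option linter.style.haveILetI false

noncomputable section

universe u

open CategoryTheory CategoryTheory.Limits AlgebraicGeometry TopologicalSpace Opposite
open Groth.Agent.QCohBase Groth.Agent.AssPts

namespace Groth.Agent.ZClosLib

variable {X : Scheme.{u}} (Z : Set X) (F : X.Modules)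

lemma app_bijective_of_at (A : X.Opens) (h : ∀ x ∈ A, ZClos.IsZClosedAt Z F x) :
    Function.Bijective ((ZClos.rhoApp Z F).app A) :=
  TopCat.Presheaf.app_bijective_of_stalkFunctor_map_bijective
    (F := ⟨F.presheaf, F.isSheaf⟩) (G := ⟨((ZClos.H0 Z).obj F).presheaf, ((ZClos.H0 Z).obj F).isSheaf⟩)
    ⟨(ZClos.rhoApp Z F).mapPresheaf⟩ A h

lemma isZClosedAt_of_isZClosed (h : ZClos.IsZClosed Z F) (x : X) : ZClos.IsZClosedAt Z F x := by
  haveI : IsIso (ZClos.rhoApp Z F) := h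
  haveI : IsIso (ZClos.rhoApp Z F).mapPresheaf :=
    inferInstanceAs (IsIso ((Scheme.Modules.toPresheaf X).map (ZClos.rhoApp Z F)))
  exact ConcreteCategory.bijective_of_isIso
    ((TopCat.Presheaf.stalkFunctor (C := Ab.{u}) x).map (ZClos.rhoApp Z F).mapPresheaf)

lemma isZPure_of_at (h : ∀ x, ZClos.IsZPureAt Z F x) : ZClos.IsZPure Z F := by
  refine mono_of_app_injective _ fun V _ => ?_
  rw [injective_iff_map_eq_zero]
  intro s hs
  refine eq_zero_of_germ s fun x hx => h x ?_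
  rw [rhoStalk_germ, hs, map_zero, rhoStalk_zero]

variable [IsLocallyNoetherian X]

/-- The linear identification of stalks off `Z` (or wherever the module is closed). -/
def stalkEquiv (x : X) (h : ZClos.IsZClosedAt Z F x) :
    F.presheaf.stalk x ≃ₗ[X.presheaf.stalk x] ((ZClos.H0 Z).obj F).presheaf.stalk x :=
  LinearEquiv.ofBijective
    { toFun := ZClos.rhoStalk Z F x
      map_add' := map_add _
      map_smul' := rhoStalk_smul Z F x } h

theorem two_le_depth_H0 (hZ : StableUnderSpecialization Z) (hH : Coh.IsCoh ((ZClos.H0 Z).obj F))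
    (x : X) (hx : x ∈ Z) :
    (2 : ℕ∞) ≤ LocCoh.depth (X.presheaf.stalk x) (((ZClos.H0 Z).obj F).presheaf.stalk x) :=
  two_le_depth_of_isZClosedAt Z _ hH hZ x (isZClosedAt_of_isZClosed Z _ (isZClosed_H0 Z F) x) x
    (specializes_refl x) hx

lemma mem_ass_H0 (x : X) (hx : x ∈ AssSch.Ass F) (hxZ : x ∉ Z) :
    x ∈ AssSch.Ass ((ZClos.H0 Z).obj F) := by
  change IsAssociatedPrime _ _
  exact ((stalkEquiv Z F x (isZClosedAt_of_notMem Z F x hxZ)).isAssociatedPrime_iff).1 hx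

theorem two_le_dim_quot (hZ : StableUnderSpecialization Z) (hH : Coh.IsCoh ((ZClos.H0 Z).obj F))
    (x : X) (hx : x ∈ AssSch.Ass F) (hxZ : x ∉ Z) (y : X) (hy : y ∈ Z) (h : x ⤳ y) :
    (2 : WithBot ℕ∞) ≤ ringKrullDim (X.presheaf.stalk y ⧸
      (IsLocalRing.maximalIdeal (X.presheaf.stalk x)).comap (X.presheaf.stalkSpecializes h).hom) := by
  set H := (ZClos.H0 Z).obj F
  haveI := hH.1
  haveI := finite_stalk H hH y
  obtain ⟨_, ⟨(W : X.Opens), hW, rfl⟩, hyW, -⟩ :=
    X.isBasis_affineOpens.exists_subset_of_mem_open (Set.mem_univ y) isOpen_univ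
  have hxW : x ∈ W := h.mem_open W.isOpen hyW
  haveI := isNoetherianRing_sections hW
  obtain ⟨hP, m, hm⟩ := WeakAss.mem_ass_iff.1 ((mem_ass_iff H hW x hxW).1 (mem_ass_H0 Z F x hx hxZ))
  have hle := prime_le_of_specializes hW hxW hyW h
  set Q := (IsLocalRing.maximalIdeal (X.presheaf.stalk x)).comap (X.presheaf.stalkSpecializes h).hom
  have hQ : Q ∈ associatedPrimes (X.presheaf.stalk y) (H.presheaf.stalk y) := by
    refine isAssociatedPrime_iff.2 ⟨Ideal.IsPrime.comap _, H.presheaf.germ W y hyW m, ?_⟩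
    ext a
    rw [Submodule.mem_colon_singleton, Submodule.mem_bot, Ideal.mem_comap]
    obtain ⟨g, r, hg, hr⟩ := exists_ringGerm_mul_eq hW y hyW a
    have hgu := (notMem_prime_iff hW y hyW g).1 hg
    have e1 : (X.presheaf.stalkSpecializes h).hom a ∈ IsLocalRing.maximalIdeal (X.presheaf.stalk x) ↔
        r ∈ (hW.primeIdealOf ⟨x, hxW⟩).asIdeal := by
      rw [mem_prime_iff hW x hxW, ← TopCat.Presheaf.germ_stalkSpecializes_apply X.presheaf hyW h r, ← hr]
      change _ ↔ (X.presheaf.stalkSpecializes h).hom (a * X.presheaf.germ W y hyW g) ∈ _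
      rw [map_mul]
      exact (Ideal.mul_unit_mem_iff_mem _ (hgu.map _)).symm
    rw [e1, hm]
    have e2 : a • H.presheaf.germ W y hyW m = 0 ↔ H.presheaf.germ W y hyW (r • m) = 0 := by
      rw [germ_smul', ← hr, mul_comm, mul_smul, hgu.smul_eq_zero]
    rw [e2]
    refine ⟨fun h0 => by rw [h0, map_zero], fun h0 => ?_⟩
    obtain ⟨t, ht, htr⟩ := (germ_eq_zero_iff H hW y hyW _).1 h0
    rw [smul_smul, ← hm] at htr
    exact (hm r).1 ((hP.mem_or_mem htr).resolve_left fun hh => ht (hle hh))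
  have hQm : Q ≤ IsLocalRing.maximalIdeal (X.presheaf.stalk y) :=
    IsLocalRing.le_maximalIdeal (Ideal.IsPrime.comap _).ne_top
  haveI : Nontrivial (H.presheaf.stalk y) := by
    obtain ⟨hp, z, hz⟩ := isAssociatedPrime_iff.1 hQ
    refine ⟨z, 0, fun h0 => hp.ne_top ?_⟩
    rw [hz, h0, Ideal.eq_top_iff_one]
    simp
  by_contra hlt
  rw [not_le] at hlt
  have hd : ringKrullDim (X.presheaf.stalk y ⧸ Q) ≤ ((1 : ℕ) : ℕ∞) := by
    generalize ringKrullDim (X.presheaf.stalk y ⧸ Q) = d at hlt ⊢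
    cases d with
    | bot => exact bot_le
    | coe d =>
      have h2 : d < 2 := WithBot.coe_lt_coe.1 hlt
      have : d ≤ 1 := by
        rwa [show (2 : ℕ∞) = 1 + 1 from rfl, ENat.lt_add_one_iff ENat.one_ne_top] at h2
      exact_mod_cast this
  have h0 : LocCoh.idealDepth Q (H.presheaf.stalk y) = 0 :=
    (Depth.idealDepth_eq_zero_iff (Depth.smul_top_ne_top_of_isLocalRing hQm)).2 ⟨Q, hQ, le_rfl⟩
  have h2 := (two_le_depth_H0 Z F hZ hH y hy).trans (Depth.depth_le_idealDepth_add _ Q hd)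
  rw [h0, zero_add] at h2
  exact absurd h2 (by norm_num)

/-- Where the module is closed is open, when both it and its closure are coherent. -/
theorem isOpen_closedAt (hF : Coh.IsCoh F) (hH : Coh.IsCoh ((ZClos.H0 Z).obj F)) :
    IsOpen {x : X | ZClos.IsZClosedAt Z F x} := by
  classical
  set H := (ZClos.H0 Z).obj F
  haveI := hF.1
  haveI := hH.1
  refine isOpen_iff_forall_mem_open.2 fun x hx => ?_
  obtain ⟨_, ⟨(W : X.Opens), hW, rfl⟩, hxW, -⟩ :=
    X.isBasis_affineOpens.exists_subset_of_mem_open (Set.mem_univ x) isOpen_univ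
  haveI := isNoetherianRing_sections hW
  haveI := isFiniteType_toFinite hF hW
  haveI := isFiniteType_toFinite hH hW
  let ρ := appL (ZClos.rhoApp Z F) W
  set q := (hW.primeIdealOf ⟨x, hxW⟩).asIdeal
  obtain ⟨S, hS⟩ := (IsNoetherian.noetherian (LinearMap.ker ρ) : (LinearMap.ker ρ).FG)
  obtain ⟨S', hS'⟩ := (Module.Finite.fg_top : (⊤ : Submodule Γ(X, W) Γ(H, W)).FG)
  have h1 : ∀ k ∈ S, ∃ t ∉ q, t • k = 0 := fun k hk => by
    refine (germ_eq_zero_iff F hW x hxW k).1 (hx.1 ?_)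
    have hk' : ρ k = 0 := LinearMap.mem_ker.1 (hS ▸ Submodule.subset_span hk)
    rw [rhoStalk_germ, rhoStalk_zero]
    exact (congrArg (H.presheaf.germ W x hxW) hk').trans (map_zero _)
  have h2 : ∀ n ∈ S', ∃ t ∉ q, ∃ m, t • n = ρ m := fun n _ => by
    obtain ⟨z, hz⟩ := hx.2 (H.presheaf.germ W x hxW n)
    obtain ⟨g, m, hg, hgm⟩ := exists_germ_smul_eq F hW x hxW z
    have h0 : H.presheaf.germ W x hxW (g • n - ρ m) = 0 := by
      rw [map_sub, germ_smul', sub_eq_zero, ← hz, ← rhoStalk_smul, hgm]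
      exact rhoStalk_germ Z F W x hxW m
    obtain ⟨t, ht, htn⟩ := (germ_eq_zero_iff H hW x hxW _).1 h0
    rw [smul_sub, sub_eq_zero, smul_smul, ← map_smul] at htn
    exact ⟨t * g, (hW.primeIdealOf ⟨x, hxW⟩).isPrime.mul_notMem ht hg, _, htn⟩
  choose! a ha hak using h1
  choose! b hb m hbm using h2
  let f := (∏ k ∈ S, a k) * ∏ n ∈ S', b n
  have hqp := (hW.primeIdealOf ⟨x, hxW⟩).isPrime
  have hf : f ∉ q := hqp.mul_notMem
    (fun hmem => by obtain ⟨k, hk, hk'⟩ := hqp.prod_mem_iff.1 hmem; exact ha k hk hk')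
    (fun hmem => by obtain ⟨k, hk, hk'⟩ := hqp.prod_mem_iff.1 hmem; exact hb k hk hk')
  have hfk : ∀ k : Γ(F, W), ρ k = 0 → f • k = 0 := fun k hk => by
    have hk' : k ∈ Submodule.span Γ(X, W) (S : Set Γ(F, W)) := hS ▸ LinearMap.mem_ker.2 hk
    refine Submodule.span_induction (fun s hs => ?_) (smul_zero f)
      (fun s t _ _ hs ht => by rw [smul_add, hs, ht, add_zero])
      (fun c s _ hs => by rw [smul_comm, hs, smul_zero]) hk'
    obtain ⟨c, hc⟩ := Finset.dvd_prod_of_mem a hs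
    change ((∏ k ∈ S, a k) * _) • s = 0
    rw [hc, show a s * c * (∏ n ∈ S', b n) = c * (∏ n ∈ S', b n) * a s by ring, mul_smul, hak s hs,
      smul_zero]
  have hfn : ∀ n : Γ(H, W), ∃ m, f • n = ρ m := fun n => by
    have hn : n ∈ Submodule.span Γ(X, W) (S' : Set Γ(H, W)) := hS' ▸ trivial
    refine Submodule.span_induction (fun s hs => ?_) ⟨0, by rw [smul_zero, map_zero]⟩
      (fun s t _ _ ⟨ms, hms⟩ ⟨mt, hmt⟩ => ⟨ms + mt, by rw [smul_add, hms, hmt, map_add]⟩)
      (fun c s _ ⟨ms, hms⟩ => ⟨c • ms, by rw [smul_comm, hms, map_smul]⟩) hn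
    obtain ⟨c, hc⟩ := Finset.dvd_prod_of_mem b hs
    refine ⟨((∏ k ∈ S, a k) * c) • m s, ?_⟩
    change ((∏ k ∈ S, a k) * _) • s = _
    rw [hc, map_smul, ← hbm s hs, smul_smul]
    congr 1; ring
  refine ⟨X.basicOpen f, fun y hy => ?_, (X.basicOpen f).isOpen,
    (mem_basicOpen_iff_notMem_prime hW x hxW f).2 hf⟩
  have hyW : y ∈ W := X.basicOpen_le f hy
  have hfy := (mem_basicOpen_iff_notMem_prime hW y hyW f).1 hy
  have hfu := (notMem_prime_iff hW y hyW f).1 hfy
  constructor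
  · rw [injective_iff_map_eq_zero]
    intro z hz
    obtain ⟨g, s, hg, hgs⟩ := exists_germ_smul_eq F hW y hyW z
    have h0 : H.presheaf.germ W y hyW (ρ s) = 0 :=
      (rhoStalk_germ Z F W y hyW s).symm.trans (by rw [← hgs, rhoStalk_smul, hz, smul_zero])
    obtain ⟨t, ht, hts⟩ := (germ_eq_zero_iff H hW y hyW _).1 h0
    rw [← map_smul] at hts
    have h3 := congrArg (F.presheaf.germ W y hyW) (hfk _ hts)
    rw [germ_smul', germ_smul', map_zero, ← hgs, hfu.smul_eq_zero,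
      ((notMem_prime_iff hW y hyW t).1 ht).smul_eq_zero,
      ((notMem_prime_iff hW y hyW g).1 hg).smul_eq_zero] at h3
    exact h3
  · intro z
    obtain ⟨g, n, hg, hgn⟩ := exists_germ_smul_eq H hW y hyW z
    obtain ⟨s, hs⟩ := hfn n
    obtain ⟨v, hv⟩ := hfu.mul ((notMem_prime_iff hW y hyW g).1 hg)
    refine ⟨(↑v⁻¹ : X.presheaf.stalk y) • F.presheaf.germ W y hyW s, ?_⟩
    rw [rhoStalk_smul]
    refine (congrArg _ ((rhoStalk_germ Z F W y hyW s).trans (congrArg _ hs.symm))).trans ?_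
    rw [germ_smul', ← hgn, smul_smul (X.presheaf.germ W y hyW f), ← hv, smul_smul, Units.inv_mul, one_smul]

lemma isZClosed_restrict_of_at (hZ : StableUnderSpecialization Z) (V : X.Opens)
    (h : ∀ x ∈ V, ZClos.IsZClosedAt Z F x) :
    ZClos.IsZClosed (V.ι.base ⁻¹' Z) ((Scheme.Modules.restrictFunctor V.ι).obj F) := by
  haveI : IsLocallyNoetherian V.toScheme := isLocallyNoetherian_of_isOpenImmersion V.ι
  set H := (ZClos.H0 Z).obj F
  rw [isZClosed_iff_bijective]
  intro T' W hW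
  obtain ⟨T, hT⟩ := exists_cl_image Z hZ V T' W hW
  have hA : V.ι ''ᵁ W ≤ V := by
    rintro _ ⟨y, -, rfl⟩
    exact y.2
  have hH := (isZClosed_iff_bijective Z H).1 (isZClosed_H0 Z F) T (V.ι ''ᵁ W) (hW.image V.ι.continuous)
  have hB : Function.Bijective (F.presheaf.map
      (homOfLE (inf_le_left : V.ι ''ᵁ W ⊓ T.U ≤ V.ι ''ᵁ W)).op) := by
    have e1 := app_bijective_of_at Z F (V.ι ''ᵁ W) (fun x hx => h x (hA hx))
    have e2 := app_bijective_of_at Z F (V.ι ''ᵁ W ⊓ T.U) (fun x hx => h x (hA hx.1))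
    have e3 := hH.comp e1
    have e4 : Function.Bijective (((ZClos.rhoApp Z F).app (V.ι ''ᵁ W ⊓ T.U)) ∘
        F.presheaf.map (homOfLE (inf_le_left : V.ι ''ᵁ W ⊓ T.U ≤ V.ι ''ᵁ W)).op) := by
      refine (iff_of_eq (congrArg Function.Bijective (funext fun s => ?_))).1 e3
      exact (ConcreteCategory.congr_hom ((ZClos.rhoApp Z F).mapPresheaf.naturality
        (homOfLE (inf_le_left : V.ι ''ᵁ W ⊓ T.U ≤ V.ι ''ᵁ W)).op) s).symm
    exact (Function.Bijective.of_comp_iff' e2 _).1 e4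
  exact (map_bijective_congr F rfl hT
    (V.ι.image_mono inf_le_left : V.ι ''ᵁ (W ⊓ T'.U) ≤ V.ι ''ᵁ W) inf_le_left).2 hB

lemma isZClosedAt_of_restrict (V : X.Opens)
    (h : ZClos.IsZClosed (V.ι.base ⁻¹' Z) ((Scheme.Modules.restrictFunctor V.ι).obj F)) (x : X)
    (hx : x ∈ V) : ZClos.IsZClosedAt Z F x := by
  haveI : IsLocallyNoetherian V.toScheme := isLocallyNoetherian_of_isOpenImmersion V.ι
  have key : ∀ (A : X.Opens), IsAffineOpen A → A ≤ V → ∀ T : ZClos.Cl Z,
      Function.Bijective (F.presheaf.map (homOfLE (inf_le_left : A ⊓ T.U ≤ A)).op) := fun A hA hAV T => by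
    have hA' : V.ι ''ᵁ (V.ι ⁻¹ᵁ A) = A := by
      rw [Scheme.Hom.image_preimage_eq_opensRange_inf, Scheme.Opens.opensRange_ι, inf_eq_right]
      exact hAV
    have hA'c : IsCompact ((V.ι ⁻¹ᵁ A : V.toScheme.Opens) : Set V.toScheme) := by
      rw [V.ι.isOpenEmbedding.isInducing.isCompact_iff]
      exact (congrArg (fun O : X.Opens => IsCompact (O : Set X)) hA').mpr hA.isCompact
    exact (map_bijective_congr F hA'
      ((image_preimage_inf Z V T (clPreimage Z V T) rfl _).trans (congrArg (· ⊓ T.U) hA'))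
      (V.ι.image_mono inf_le_left) inf_le_left).1
      ((isZClosed_iff_bijective _ _).1 h (clPreimage Z V T) _ hA'c)
  refine ⟨?_, fun w => ?_⟩
  · rw [injective_iff_map_eq_zero]
    intro z hz
    obtain ⟨W, hxW, s, rfl⟩ := TopCat.Presheaf.exists_germ_eq F.presheaf z
    rw [← germ_mres F x (inf_le_left : W ⊓ V ≤ W) ⟨hxW, hx⟩ s] at hz ⊢
    obtain ⟨A, hAW, T, hA, hxA, hs⟩ := exists_tr_eq_zero Z F _ _ hz
    rw [← germ_mres F x hAW hxA]
    have h0 : mres F hAW (mres F (inf_le_left : W ⊓ V ≤ W) s) = 0 := by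
      refine (key A hA (hAW.trans inf_le_right) T).1 (Eq.trans ?_ (map_zero _).symm)
      have h1 := congrArg (mres F (show A ⊓ T.U ≤ tr T A from fun a ha => (mem_tr Z).2 ha)) hs
      rw [map_zero, mres_mres] at h1
      exact (mres_mres F hAW inf_le_left _).trans h1
    rw [h0, map_zero]
  · obtain ⟨W₀, hxW₀, t₀, rfl⟩ := TopCat.Presheaf.exists_germ_eq ((ZClos.H0 Z).obj F).presheaf w
    obtain ⟨_, ⟨(A : X.Opens), hA, rfl⟩, hxA, hAW₀⟩ :=
      X.isBasis_affineOpens.exists_subset_of_mem_open (show x ∈ (W₀ : Set X) ∩ V from ⟨hxW₀, hx⟩)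
        (W₀.isOpen.inter V.isOpen)
    obtain ⟨T, u, hu⟩ := ModColimLib.exists_rep (colimit.isColimit ((ZClos.diagram Z).obj F)) hA.isCompact
      (((ZClos.H0 Z).obj F).presheaf.map (homOfLE (show A ≤ W₀ from fun a ha => (hAW₀ ha).1)).op t₀)
    rw [← TopCat.Presheaf.germ_res_apply _ (homOfLE (show A ≤ W₀ from fun a ha => (hAW₀ ha).1)) x hxA t₀, ← hu]
    have hle : tr T A ≤ A ⊓ T.U := fun a ha => (mem_tr Z).1 ha
    have hle' : A ⊓ T.U ≤ tr T A := fun a ha => (mem_tr Z).2 ha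
    obtain ⟨s, hs⟩ := (key A hA (fun a ha => (hAW₀ ha).2) T).2 (mres F hle' (show Γ(F, tr T A) from u))
    refine ⟨F.presheaf.germ A x hxA s, ?_⟩
    rw [rhoStalk_germ, ← push_mres Z F T, show mres F (tr_le Z T A) s = (show Γ(F, tr T A) from u) by
      have h1 := congrArg (mres F hle) (show mres F inf_le_left s = mres F hle' _ from hs)
      rwa [mres_mres, mres_mres, mres_refl] at h1]
    rfl

theorem exists_closed_locus (hZ : StableUnderSpecialization Z) (hF : Coh.IsCoh F)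
    (hH : Coh.IsCoh ((ZClos.H0 Z).obj F)) :
    ∃ U : X.Opens, (U : Set X) = {x | ∀ x' : X, x' ⤳ x → x' ∈ Z →
        (2 : ℕ∞) ≤ LocCoh.depth (X.presheaf.stalk x') (F.presheaf.stalk x')} ∧
      (U : Set X)ᶜ ⊆ Z ∧
      ZClos.IsZClosed (U.ι.base ⁻¹' Z) ((Scheme.Modules.restrictFunctor U.ι).obj F) ∧
      ∀ V : X.Opens, ZClos.IsZClosed (V.ι.base ⁻¹' Z) ((Scheme.Modules.restrictFunctor V.ι).obj F) → V ≤ U :=
  ⟨⟨_, isOpen_closedAt Z F hF hH⟩, Set.ext fun x => isZClosedAt_iff_depth Z F hF hZ x,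
    fun x hx => by
      by_contra hxZ
      exact hx (isZClosedAt_of_notMem Z F x hxZ),
    isZClosed_restrict_of_at Z F hZ _ fun _ hx => hx,
    fun V hV x hx => isZClosedAt_of_restrict Z F V hV x hx⟩

theorem isCoh_resPush (hZ : StableUnderSpecialization Z) (hF : Coh.IsCoh F)
    (hass : ∀ x ∈ AssSch.Ass F, x ∉ Z) (hH : Coh.IsCoh ((ZClos.H0 Z).obj F)) (T : ZClos.Cl Z) :
    Coh.IsCoh ((ZClos.resPush T.U).obj F) := by
  haveI := hF.1
  have hp : ZClos.IsZPure Z F := isZPure_of_at Z F fun x =>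
    (isZPureAt_iff_ass Z F hZ x).2 fun y _ hyZ hy => hass y hy hyZ
  rw [isZPure_iff_injective] at hp
  haveI hm : Mono (colimit.ι ((ZClos.diagram Z).obj F) T) := mono_of_app_injective _ fun W hW => by
    rw [injective_iff_map_eq_zero]
    intro u hu
    obtain ⟨T', g, hg⟩ :=
      ModColimLib.exists_map_eq_zero (colimit.isColimit ((ZClos.diagram Z).obj F)) hW u hu
    rw [map_tr_apply] at hg
    refine hp T' (tr T W) (isCompact_image_preimage T.U W hW) (Eq.trans ?_ (map_zero _).symm)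
    refine eq_zero_of_germ (M := F) _ fun y hy => ?_
    refine (TopCat.Presheaf.germ_res_apply F.presheaf _ y hy _).trans ?_
    have hy' : y ∈ tr T' W := (mem_tr Z).2 ⟨((mem_tr Z).1 hy.1).1, hy.2⟩
    have h1 := congrArg (F.presheaf.germ (tr T' W) y hy') hg
    refine Eq.trans ?_ (h1.trans (map_zero (F.presheaf.germ (tr T' W) y hy').hom))
    exact (TopCat.Presheaf.germ_res_apply F.presheaf _ y hy' _).symm
  haveI : (F.restrict T.U.ι).IsQuasicoherent := inferInstance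
  let i : (ZClos.resPush T.U).obj F ⟶ (ZClos.H0 Z).obj F := colimit.ι ((ZClos.diagram Z).obj F) T
  haveI : Mono i := hm
  exact QCohBase.isCoh_of_mono i hH
    (QCohBase.isQuasicoherent_pushforward (F.restrict T.U.ι) T.U.ι)

/-! ## The `S₂` locus -/

omit [IsLocallyNoetherian X] in
lemma ringKrullDim_stalk_eq {W : X.Opens} (hW : IsAffineOpen W) {x : X} (hx : x ∈ W) :
    ringKrullDim (X.presheaf.stalk x) = (hW.primeIdealOf ⟨x, hx⟩).asIdeal.height := by
  letI := (X.presheaf.germ W x hx).hom.toAlgebra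
  haveI : IsLocalization.AtPrime (X.presheaf.stalk x) (hW.primeIdealOf ⟨x, hx⟩).asIdeal :=
    hW.isLocalization_stalk ⟨x, hx⟩
  exact IsLocalization.AtPrime.ringKrullDim_eq_height _ _

omit [IsLocallyNoetherian X] in
lemma stable_dimGe (n : ℕ) : StableUnderSpecialization (ZClos.dimGe X n) := by
  intro y x h hy
  obtain ⟨_, ⟨(W : X.Opens), hW, rfl⟩, hxW, -⟩ :=
    X.isBasis_affineOpens.exists_subset_of_mem_open (Set.mem_univ x) isOpen_univ
  have hyW : y ∈ W := h.mem_open W.isOpen hxW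
  refine le_trans (show (n : WithBot ℕ∞) ≤ ringKrullDim (X.presheaf.stalk y) from hy) ?_
  rw [ringKrullDim_stalk_eq hW hxW, ringKrullDim_stalk_eq hW hyW, WithBot.coe_le_coe]
  exact Ideal.height_mono (prime_le_of_specializes hW hyW hxW h)

lemma supportDim_stalk [F.IsQuasicoherent] (hsupp : ∀ x : X, Nontrivial (F.presheaf.stalk x)) (x : X) :
    Module.supportDim (X.presheaf.stalk x) (F.presheaf.stalk x) = ringKrullDim (X.presheaf.stalk x) := by
  obtain ⟨_, ⟨(W : X.Opens), hW, rfl⟩, hxW, -⟩ :=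
    X.isBasis_affineOpens.exists_subset_of_mem_open (Set.mem_univ x) isOpen_univ
  have hu : Module.support (X.presheaf.stalk x) (F.presheaf.stalk x) = Set.univ := by
    refine Set.eq_univ_of_forall fun Q => Module.mem_support_iff'.2 ?_
    haveI := Q.2
    obtain ⟨y, hyW, hyQ⟩ := exists_point hW (Q.asIdeal.comap (X.presheaf.germ W x hxW).hom)
    haveI := hsupp y
    obtain ⟨z, hz⟩ := exists_ne (0 : F.presheaf.stalk y)
    obtain ⟨g, m, hg, hgm⟩ := exists_germ_smul_eq F hW y hyW z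
    refine ⟨F.presheaf.germ W x hxW m, fun a ha h0 => hz ?_⟩
    obtain ⟨c, r, hc, hr⟩ := exists_ringGerm_mul_eq hW x hxW a
    have hr0 : F.presheaf.germ W x hxW (r • m) = 0 := by
      rw [germ_smul', ← hr, mul_comm, mul_smul, h0, smul_zero]
    obtain ⟨t, ht, htm⟩ := (germ_eq_zero_iff F hW x hxW _).1 hr0
    have hrQ : r ∉ (hW.primeIdealOf ⟨y, hyW⟩).asIdeal := by
      rw [hyQ, Ideal.mem_comap]
      change X.presheaf.germ W x hxW r ∉ Q.asIdeal
      rw [← hr]
      exact fun hh => (Q.2.mem_or_mem hh).elim ha fun hh' =>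
        Q.2.ne_top (Ideal.eq_top_of_isUnit_mem _ hh' ((notMem_prime_iff hW x hxW c).1 hc))
    have htQ : t ∉ (hW.primeIdealOf ⟨y, hyW⟩).asIdeal := by
      rw [hyQ, Ideal.mem_comap]
      exact fun hh => Q.2.ne_top
        (Ideal.eq_top_of_isUnit_mem _ hh ((notMem_prime_iff hW x hxW t).1 ht))
    have h1 : F.presheaf.germ W y hyW m = 0 := (germ_eq_zero_iff F hW y hyW m).2
      ⟨t * r, (hW.primeIdealOf ⟨y, hyW⟩).isPrime.mul_notMem htQ hrQ, by rw [mul_smul]; exact htm⟩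
    rw [← hgm] at h1
    exact ((notMem_prime_iff hW y hyW g).1 hg).smul_eq_zero.1 h1
  rw [Module.supportDim, hu, Order.krullDim_eq_of_orderIso OrderIso.Set.univ, ← ringKrullDim]

omit [IsLocallyNoetherian X] in
lemma min_le_depth_of_dim_le_one
    {s d : WithBot ℕ∞} {e : ℕ∞} (hs : s ≤ d) (hd : ¬ (2 : WithBot ℕ∞) ≤ d) (h : d = 1 → 1 ≤ e) :
    min (2 : WithBot ℕ∞) s ≤ (e : WithBot ℕ∞) := by
  refine (min_le_right _ _).trans (hs.trans ?_)
  cases d with
  | bot => exact bot_le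
  | coe d =>
    have h2 : d < 2 := WithBot.coe_lt_coe.1 (not_le.1 hd)
    have h1 : d ≤ 1 := by
      rwa [show (2 : ℕ∞) = 1 + 1 from rfl, ENat.lt_add_one_iff ENat.one_ne_top] at h2
    rcases h1.eq_or_lt with rfl | h1
    · exact WithBot.coe_le_coe.2 (h rfl)
    · rw [Order.lt_one_iff.1 h1]
      exact WithBot.coe_le_coe.2 bot_le

theorem hasS2_H0 (hF : Coh.IsCoh F)
    (hass : ∀ x ∈ AssSch.Ass F, ringKrullDim (X.presheaf.stalk x) ≠ 1)
    (hH : Coh.IsCoh ((ZClos.H0 (ZClos.dimGe X 2)).obj F)) (x : X) :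
    min (2 : WithBot ℕ∞) (Module.supportDim (X.presheaf.stalk x) (((ZClos.H0 (ZClos.dimGe X 2)).obj F).presheaf.stalk x)) ≤
      ((LocCoh.depth (X.presheaf.stalk x) (((ZClos.H0 (ZClos.dimGe X 2)).obj F).presheaf.stalk x) : ℕ∞) : WithBot ℕ∞) := by
  by_cases hx : x ∈ ZClos.dimGe X 2
  · refine (min_le_left _ _).trans ?_
    exact (WithBot.coe_le_coe (a := (2 : ℕ∞))).2 (two_le_depth_H0 _ F (stable_dimGe 2) hH x hx)
  · refine min_le_depth_of_dim_le_one
      (Module.supportDim_le_ringKrullDim _ _) hx fun h1 => ?_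
    rw [show LocCoh.depth (X.presheaf.stalk x) _ = LocCoh.depth (X.presheaf.stalk x) (F.presheaf.stalk x) from
      (Depth.depth_congr (stalkEquiv _ F x (isZClosedAt_of_notMem _ F x hx))).symm]
    exact (one_le_depth_iff F hF x).2 fun hA => hass x hA h1

theorem isOpen_S2_locus (hF : Coh.IsCoh F) (hsupp : ∀ x : X, Nontrivial (F.presheaf.stalk x))
    (hass : ∀ x ∈ AssSch.Ass F, ringKrullDim (X.presheaf.stalk x) ≠ 1)
    (hH : Coh.IsCoh ((ZClos.H0 (ZClos.dimGe X 2)).obj F)) :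
    IsOpen {x : X | ∀ x' : X, x' ⤳ x →
        min (2 : WithBot ℕ∞) (Module.supportDim (X.presheaf.stalk x') (F.presheaf.stalk x')) ≤
          ((LocCoh.depth (X.presheaf.stalk x') (F.presheaf.stalk x') : ℕ∞) : WithBot ℕ∞)} ∧
      ∀ x : X, (¬ ∀ x' : X, x' ⤳ x →
        min (2 : WithBot ℕ∞) (Module.supportDim (X.presheaf.stalk x') (F.presheaf.stalk x')) ≤
          ((LocCoh.depth (X.presheaf.stalk x') (F.presheaf.stalk x') : ℕ∞) : WithBot ℕ∞)) →
        (2 : WithBot ℕ∞) ≤ ringKrullDim (X.presheaf.stalk x) := by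
  haveI := hF.1
  have key : ∀ x : X, (∀ x' : X, x' ⤳ x →
      min (2 : WithBot ℕ∞) (Module.supportDim (X.presheaf.stalk x') (F.presheaf.stalk x')) ≤
        ((LocCoh.depth (X.presheaf.stalk x') (F.presheaf.stalk x') : ℕ∞) : WithBot ℕ∞)) ↔
      ZClos.IsZClosedAt (ZClos.dimGe X 2) F x := by
    intro x
    rw [isZClosedAt_iff_depth _ F hF (stable_dimGe 2) x]
    refine forall_congr' fun x' => imp_congr_right fun _ => ⟨fun h hx' => ?_, fun h => ?_⟩
    · rw [supportDim_stalk F hsupp, min_eq_left (show (2 : WithBot ℕ∞) ≤ _ from hx')] at h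
      exact (WithBot.coe_le_coe (a := (2 : ℕ∞))).1 h
    · by_cases hx' : x' ∈ ZClos.dimGe X 2
      · exact (min_le_left _ _).trans ((WithBot.coe_le_coe (a := (2 : ℕ∞))).2 (h hx'))
      · exact min_le_depth_of_dim_le_one
          (Module.supportDim_le_ringKrullDim _ _) hx' fun h1 =>
          (one_le_depth_iff F hF x').2 fun hA => hass x' hA h1
  refine ⟨?_, fun x hx => ?_⟩
  · simp only [key]
    exact isOpen_closedAt _ F hF hH
  · by_contra hlt
    exact hx ((key x).2 (isZClosedAt_of_notMem _ F x hlt))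

end Groth.Agent.ZClosLib
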