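import Groth.Agent.ZClosLib.Coherent

/-!
# Codimension in the closure of a point, in the primes of an affine chart
-/

set_option autoImplicit false
set_option linter.style.haveILetI false

noncomputable section

universe u

open CategoryTheory CategoryTheory.Limits AlgebraicGeometry TopologicalSpace Opposite
open Groth.Agent.QCohBase Groth.Agent.AssPts

namespace Groth.Agent.ZClosLib

variable {X : Scheme.{u}}

theorem ringKrullDim_quot_le_height {W : X.Opens} (hW : IsAffineOpen W) {x y : X} (hx : x ∈ W) (hy : y ∈ W)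
    (h : x ⤳ y) :
    ringKrullDim (X.presheaf.stalk y ⧸
      (IsLocalRing.maximalIdeal (X.presheaf.stalk x)).comap (X.presheaf.stalkSpecializes h).hom) ≤
      ((hW.primeIdealOf ⟨y, hy⟩).asIdeal.map (Ideal.Quotient.mk (hW.primeIdealOf ⟨x, hx⟩).asIdeal)).height := by
  set p := (hW.primeIdealOf ⟨x, hx⟩).asIdeal
  set q := (hW.primeIdealOf ⟨y, hy⟩).asIdeal
  have hpq : p ≤ q := prime_le_of_specializes hW hx hy h
  set Q := (IsLocalRing.maximalIdeal (X.presheaf.stalk x)).comap (X.presheaf.stalkSpecializes h).hom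
  haveI : (q.map (Ideal.Quotient.mk p)).IsPrime :=
    Ideal.map_isPrime_of_surjective Ideal.Quotient.mk_surjective (by rw [Ideal.mk_ker]; exact hpq)
  let φ : Γ(X, W) →+* X.presheaf.stalk y ⧸ Q := (Ideal.Quotient.mk Q).comp (X.presheaf.germ W y hy).hom
  have hφ : ∀ a ∈ p, φ a = 0 := fun a ha => by
    refine Ideal.Quotient.eq_zero_iff_mem.2 ?_
    rw [Ideal.mem_comap]
    have h1 := (mem_prime_iff hW x hx a).1 ha
    rwa [← TopCat.Presheaf.germ_stalkSpecializes_apply X.presheaf hy h a] at h1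
  let ψ : Γ(X, W) ⧸ p →+* X.presheaf.stalk y ⧸ Q := Ideal.Quotient.lift p φ hφ
  have hunit : ∀ s : (q.map (Ideal.Quotient.mk p)).primeCompl, IsUnit (ψ s.1) := fun ⟨s, hs⟩ => by
    obtain ⟨s, rfl⟩ := Ideal.Quotient.mk_surjective s
    exact ((notMem_prime_iff hW y hy s).1 fun hsq => hs (Ideal.mem_map_of_mem _ hsq)).map (Ideal.Quotient.mk Q)
  let ψ' : Localization.AtPrime (q.map (Ideal.Quotient.mk p)) →+* X.presheaf.stalk y ⧸ Q :=
    IsLocalization.lift hunit
  have hs : Function.Surjective ψ' := fun z => by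
    obtain ⟨a, rfl⟩ := Ideal.Quotient.mk_surjective z
    obtain ⟨g, r, hg, hr⟩ := exists_ringGerm_mul_eq hW y hy a
    have hg' : Ideal.Quotient.mk p g ∉ q.map (Ideal.Quotient.mk p) := fun hh => hg (by
      have := Ideal.comap_map_of_surjective (Ideal.Quotient.mk p) Ideal.Quotient.mk_surjective (I := q)
      have h2 : g ∈ (q.map (Ideal.Quotient.mk p)).comap (Ideal.Quotient.mk p) := hh
      rwa [this, ← RingHom.ker_eq_comap_bot, Ideal.mk_ker, sup_eq_left.2 hpq] at h2)
    refine ⟨IsLocalization.mk' _ (Ideal.Quotient.mk p r) (⟨_, hg'⟩ : (q.map (Ideal.Quotient.mk p)).primeCompl), ?_⟩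
    refine (IsLocalization.lift_mk'_spec hunit _ _ _).2 ?_
    show Ideal.Quotient.mk Q (X.presheaf.germ W y hy r) =
      Ideal.Quotient.mk Q (X.presheaf.germ W y hy g) * Ideal.Quotient.mk Q a
    rw [← map_mul, mul_comm, hr]
  refine (ringKrullDim_le_of_surjective ψ' hs).trans_eq ?_
  exact IsLocalization.AtPrime.ringKrullDim_eq_height _ _

end Groth.Agent.ZClosLib
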