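import Groth.Agent.ZClosLib.Hull
import Groth.Agent.ZClosLib.Coherent

/-!
# Sections of the closure as compatible families
-/

set_option autoImplicit false
set_option linter.style.haveILetI false

noncomputable section

universe u

open CategoryTheory CategoryTheory.Limits AlgebraicGeometry TopologicalSpace Opposite
open Groth.Agent.QCohBase Groth.Agent.AssPts

namespace Groth.Agent.ZClosLib

variable {X : Scheme.{u}} [IsLocallyNoetherian X] (Z : Set X) (F : X.Modules) [F.IsQuasicoherent]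
  {W : X.Opens} (hW : IsAffineOpen W)

/-- The primes in `Z`. -/
def primesIn : Set (PrimeSpectrum Γ(X, W)) :=
  {q | ∃ (y : X) (hy : y ∈ W), y ∈ Z ∧ (hW.primeIdealOf ⟨y, hy⟩).asIdeal = q.asIdeal}

lemma exists_pt (q : ZClosHull.Off (primesIn Z hW)) :
    ∃ (y : X) (hy : y ∈ W), y ∉ Z ∧ (hW.primeIdealOf ⟨y, hy⟩).asIdeal = q.1.asIdeal := by
  haveI := q.1.isPrime
  obtain ⟨y, hy, h⟩ := exists_point hW q.1.asIdeal
  exact ⟨y, hy, fun hZ => q.2 ⟨y, hy, hZ, h⟩, h⟩

/-- `(g, m)` represents `t` at the prime. -/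
def Rep (t : Γ((ZClos.H0 Z).obj F, W)) (y : X) (hy : y ∈ W) (g : Γ(X, W)) (m : Γ(F, W)) : Prop :=
  ((ZClos.H0 Z).obj F).presheaf.germ W y hy (g • t - (ZClos.rhoApp Z F).app W m) = 0

lemma rep_iff (t : Γ((ZClos.H0 Z).obj F, W)) (y : X) (hy : y ∈ W) (g : Γ(X, W)) (m : Γ(F, W)) :
    Rep Z F t y hy g m ↔ X.presheaf.germ W y hy g • ((ZClos.H0 Z).obj F).presheaf.germ W y hy t =
      ZClos.rhoStalk Z F y (F.presheaf.germ W y hy m) := by
  rw [Rep, map_sub, sub_eq_zero, germ_smul', rhoStalk_germ]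

lemma exists_rep_at (t : Γ((ZClos.H0 Z).obj F, W)) (q : ZClosHull.Off (primesIn Z hW)) :
    ∃ g ∉ q.1.asIdeal, ∃ m, ∀ (y : X) (hy : y ∈ W),
      (hW.primeIdealOf ⟨y, hy⟩).asIdeal = q.1.asIdeal → Rep Z F t y hy g m := by
  obtain ⟨y, hy, hyZ, h⟩ := exists_pt Z hW q
  obtain ⟨z, hz⟩ := (isZClosedAt_of_notMem Z F y hyZ).2 (((ZClos.H0 Z).obj F).presheaf.germ W y hy t)
  obtain ⟨g, m, hg, hgm⟩ := exists_germ_smul_eq F hW y hy z
  refine ⟨g, h ▸ hg, m, fun y' hy' h' => ?_⟩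
  obtain rfl : y' = y := by
    have e := congrArg hW.fromSpec (PrimeSpectrum.ext (h'.trans h.symm) :
      hW.primeIdealOf ⟨y', hy'⟩ = hW.primeIdealOf ⟨y, hy⟩)
    rwa [hW.fromSpec_primeIdealOf, hW.fromSpec_primeIdealOf] at e
  rw [rep_iff, ← hgm, rhoStalk_smul, hz]

/-- The representatives at a prime give one element of the localisation. -/
lemma rep_unique {t : Γ((ZClos.H0 Z).obj F, W)} {q : ZClosHull.Off (primesIn Z hW)} {y : X} {hy : y ∈ W}
    (h : (hW.primeIdealOf ⟨y, hy⟩).asIdeal = q.1.asIdeal) (hyZ : y ∉ Z) {g g' : Γ(X, W)} {m m' : Γ(F, W)}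
    (h₁ : Rep Z F t y hy g m) (h₂ : Rep Z F t y hy g' m') :
    g' • ZClosHull.loc q Γ(F, W) m = g • ZClosHull.loc q Γ(F, W) m' := by
  rw [rep_iff] at h₁ h₂
  have h0 : F.presheaf.germ W y hy (g' • m - g • m') = 0 := by
    refine (isZClosedAt_of_notMem Z F y hyZ).1 ?_
    rw [map_sub, germ_smul', germ_smul', map_sub, rhoStalk_smul, rhoStalk_smul, ← h₁, ← h₂, smul_smul, smul_smul,
      mul_comm, sub_self, rhoStalk_zero]
  obtain ⟨c, hc, hc'⟩ := (germ_eq_zero_iff F hW y hy _).1 h0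
  rw [h] at hc
  rw [← map_smul, ← map_smul, ← sub_eq_zero, ← map_sub]
  exact (IsLocalizedModule.eq_zero_iff q.1.asIdeal.primeCompl (ZClosHull.loc q Γ(F, W))).2 ⟨⟨c, hc⟩, hc'⟩

/-- The component of a section at a prime. -/
def comp (t : Γ((ZClos.H0 Z).obj F, W)) (q : ZClosHull.Off (primesIn Z hW)) :
    LocalizedModule q.1.asIdeal.primeCompl Γ(F, W) :=
  LocalizedModule.mk (exists_rep_at Z F hW t q).choose_spec.2.choose
    ⟨(exists_rep_at Z F hW t q).choose, (exists_rep_at Z F hW t q).choose_spec.1⟩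

lemma smul_comp {t : Γ((ZClos.H0 Z).obj F, W)} {q : ZClosHull.Off (primesIn Z hW)} {y : X} {hy : y ∈ W}
    (h : (hW.primeIdealOf ⟨y, hy⟩).asIdeal = q.1.asIdeal) {g : Γ(X, W)} {m : Γ(F, W)}
    (hr : Rep Z F t y hy g m) : g • comp Z F hW t q = ZClosHull.loc q Γ(F, W) m := by
  have hyZ : y ∉ Z := fun hZ => q.2 ⟨y, hy, hZ, h⟩
  have hspec := (exists_rep_at Z F hW t q).choose_spec
  let g₀ : q.1.asIdeal.primeCompl := ⟨(exists_rep_at Z F hW t q).choose, hspec.1⟩
  have h₀ : (g₀ : Γ(X, W)) • comp Z F hW t q = ZClosHull.loc q Γ(F, W) hspec.2.choose := by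
    show (g₀ : Γ(X, W)) • LocalizedModule.mk hspec.2.choose g₀ = _
    rw [LocalizedModule.smul'_mk, LocalizedModule.mkLinearMap_apply]
    exact LocalizedModule.mk_cancel g₀ hspec.2.choose
  refine ZClosHull.smul_cancel g₀.2 ?_
  rw [smul_comm, h₀]
  exact (rep_unique Z F hW h hyZ hr (hspec.2.choose_spec y hy h)).symm

lemma comp_eq {t : Γ((ZClos.H0 Z).obj F, W)} {q : ZClosHull.Off (primesIn Z hW)} {y : X} {hy : y ∈ W}
    (h : (hW.primeIdealOf ⟨y, hy⟩).asIdeal = q.1.asIdeal) {g : Γ(X, W)} (hg : g ∉ q.1.asIdeal) {m : Γ(F, W)}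
    (hr : Rep Z F t y hy g m) {ξ : LocalizedModule q.1.asIdeal.primeCompl Γ(F, W)}
    (hξ : g • ξ = ZClosHull.loc q Γ(F, W) m) : comp Z F hW t q = ξ :=
  ZClosHull.smul_cancel hg ((smul_comp Z F hW h hr).trans hξ.symm)

/-- Sections of the closure as compatible families. -/
def toK : Γ((ZClos.H0 Z).obj F, W) →ₗ[Γ(X, W)] ZClosHull.K (primesIn Z hW) Γ(F, W) where
  toFun t := ⟨comp Z F hW t, fun q q' hle => by
    obtain ⟨g, hg, m, hm⟩ := exists_rep_at Z F hW t q
    obtain ⟨y, hy, hyZ, h⟩ := exists_pt Z hW q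
    obtain ⟨y', hy', hyZ', h'⟩ := exists_pt Z hW q'
    have hsp : y' ⤳ y := (AssPts.specializes_iff hW y hy hy').2 (by rw [h, h']; exact hle)
    have hr' : Rep Z F t y' hy' g m := by
      rw [Rep, ← TopCat.Presheaf.germ_stalkSpecializes_apply ((ZClos.H0 Z).obj F).presheaf hy hsp,
        show ((ZClos.H0 Z).obj F).presheaf.germ W y hy _ = 0 from hm y hy h, map_zero]
    exact ⟨g, hg, m, smul_comp Z F hW h (hm y hy h), smul_comp Z F hW h' hr'⟩⟩
  map_add' t t' := Subtype.ext (funext fun q => by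
    obtain ⟨g, hg, m, hm⟩ := exists_rep_at Z F hW t q
    obtain ⟨g', hg', m', hm'⟩ := exists_rep_at Z F hW t' q
    obtain ⟨y, hy, hyZ, h⟩ := exists_pt Z hW q
    have h₁ := (rep_iff Z F t y hy g m).1 (hm y hy h)
    have h₂ := (rep_iff Z F t' y hy g' m').1 (hm' y hy h)
    refine comp_eq Z F hW h (g := g * g') (q.1.isPrime.mul_notMem hg hg') (m := g' • m + g • m') ?_ ?_
    · rw [rep_iff, map_mul, map_add, map_add, smul_add, germ_smul', germ_smul', map_add, rhoStalk_smul,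
        rhoStalk_smul, ← h₁, ← h₂, smul_smul, smul_smul, mul_comm (X.presheaf.germ W y hy g')]
    · show (g * g') • (comp Z F hW t q + comp Z F hW t' q) = _
      rw [map_add, map_smul, map_smul, ← smul_comp Z F hW h (hm y hy h), ← smul_comp Z F hW h (hm' y hy h),
        smul_add, smul_smul, smul_smul, mul_comm g' g])
  map_smul' c t := Subtype.ext (funext fun q => by
    obtain ⟨g, hg, m, hm⟩ := exists_rep_at Z F hW t q
    obtain ⟨y, hy, hyZ, h⟩ := exists_pt Z hW q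
    refine comp_eq Z F hW h (g := g) hg (m := c • m) ?_ ?_
    · rw [rep_iff, germ_smul', germ_smul', rhoStalk_smul, smul_comm, (rep_iff Z F t y hy g m).1 (hm y hy h)]
    · show g • (c • comp Z F hW t q) = _
      rw [smul_comm, smul_comp Z F hW h (hm y hy h), map_smul])

theorem toK_injective (hZ : StableUnderSpecialization Z) : Function.Injective (toK Z F hW) := by
  rw [injective_iff_map_eq_zero]
  intro t ht
  have h0 : ∀ y (hy : y ∈ W), y ∉ Z → ((ZClos.H0 Z).obj F).presheaf.germ W y hy t = 0 := fun y hy hyZ => by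
    let q : ZClosHull.Off (primesIn Z hW) := ⟨hW.primeIdealOf ⟨y, hy⟩, by
      rintro ⟨y', hy', hZ', e⟩
      have e' := congrArg hW.fromSpec (PrimeSpectrum.ext e :
        hW.primeIdealOf ⟨y', hy'⟩ = hW.primeIdealOf ⟨y, hy⟩)
      rw [hW.fromSpec_primeIdealOf, hW.fromSpec_primeIdealOf] at e'
      exact hyZ ((show y' = y from e') ▸ hZ')⟩
    obtain ⟨g, hg, m, hm⟩ := exists_rep_at Z F hW t q
    have hc : comp Z F hW t q = 0 := congrFun (congrArg Subtype.val ht) q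
    have hm0 := smul_comp Z F hW (q := q) rfl (hm y hy rfl)
    rw [hc, smul_zero] at hm0
    obtain ⟨c, hc'⟩ := (IsLocalizedModule.eq_zero_iff q.1.asIdeal.primeCompl (ZClosHull.loc q Γ(F, W))).1 hm0.symm
    have hgm : F.presheaf.germ W y hy m = 0 := (germ_eq_zero_iff F hW y hy m).2 ⟨c.1, c.2, hc'⟩
    have h1 := (rep_iff Z F t y hy g m).1 (hm y hy rfl)
    rw [hgm, rhoStalk_zero, ((notMem_prime_iff hW y hy g).1 hg).smul_eq_zero] at h1
    exact h1
  obtain ⟨T, hT⟩ := exists_cl_of_germ_eq_zero Z _ hZ hW.isCompact t h0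
  refine ((isZClosed_iff_bijective Z _).1 (isZClosed_H0 Z F) T W hW.isCompact).1 ?_
  rw [map_zero]
  refine eq_zero_of_germ _ fun y hy => ?_
  exact (TopCat.Presheaf.germ_res_apply ((ZClos.H0 Z).obj F).presheaf _ y hy t).trans (hT y hy.1 hy.2)

include hW in
theorem finite_sections (hF : Coh.IsCoh F) (hZ : StableUnderSpecialization Z)
    (h : ∀ (p : Ideal Γ(X, W)) [p.IsPrime], p ∈ associatedPrimes Γ(X, W) Γ(F, W) →
      ZClosHull.Good (primesIn Z hW) p) :
    Module.Finite Γ(X, W) Γ((ZClos.H0 Z).obj F, W) := by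
  haveI := isNoetherianRing_sections hW
  haveI := isFiniteType_toFinite hF hW
  haveI := ZClosHull.finite_K h
  exact Module.Finite.of_injective (toK Z F hW) (toK_injective Z F hW hZ)

end Groth.Agent.ZClosLib
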