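import Groth.Agent.ZClosLib.HullSections
import Groth.Agent.S2665
import Groth.Agent.QCohBase.CohRestrict
import Groth.Prelude.Def_EGA4c

/-!
# Coherence of the closure on an affine scheme
-/

set_option autoImplicit false
set_option linter.style.haveILetI false

noncomputable section

universe u

open CategoryTheory CategoryTheory.Limits AlgebraicGeometry TopologicalSpace Opposite
open Groth.Agent.QCohBase Groth.Agent.AssPts

namespace Groth.Agent.ZClosLib

variable (A : Type u) [CommRing A]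

/-- `A` as the global functions. -/
abbrev topEquiv : A ≃+* Γ(Spec (CommRingCat.of A), ⊤) :=
  (Scheme.ΓSpecIso (CommRingCat.of A)).symm.commRingCatIsoToRingEquiv

theorem comap_primeIdealOf_top (y : Spec (CommRingCat.of A)) :
    ((isAffineOpen_top (Spec (CommRingCat.of A))).primeIdealOf ⟨y, trivial⟩).asIdeal.comap (topEquiv A : A →+* _) =
      y.asIdeal := by
  ext a
  rw [Ideal.mem_comap, ← not_iff_not, ← mem_basicOpen_iff_notMem_prime (isAffineOpen_top _) y trivial]
  show y ∈ (Spec (CommRingCat.of A)).basicOpen ((Scheme.ΓSpecIso (CommRingCat.of A)).inv a) ↔ _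
  rw [basicOpen_eq_of_affine]
  rfl

variable [IsNoetherianRing A] (M : Type u) [AddCommGroup M] [Module A M] [Module.Finite A M]

theorem isCoh_H0_of_good (Z : Set (PrimeSpectrum A)) (hZ : StableUnderSpecialization Z)
    (hq : ∀ p ∈ associatedPrimes A M, ∀ [p.IsPrime], EGA4.HeightOneHullFinite (A ⧸ p))
    (hht : ∀ x : PrimeSpectrum A, x.asIdeal ∈ associatedPrimes A M → x ∉ Z →
      ∀ y ∈ Z, x.asIdeal ≤ y.asIdeal → (2 : ℕ∞) ≤ (y.asIdeal.map (Ideal.Quotient.mk x.asIdeal)).height) :
    Coh.IsCoh ((ZClos.H0 (X := Spec (CommRingCat.of A)) Z).obj (EGA4.tildeOf A M)) := by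
  let X := Spec (CommRingCat.of A)
  haveI : IsNoetherianRing (CommRingCat.of A) := ‹IsNoetherianRing A›
  haveI : IsLocallyNoetherian X := inferInstance
  haveI : Module.Finite (CommRingCat.of A) (ModuleCat.of (CommRingCat.of A) M) := ‹Module.Finite A M›
  let F : X.Modules := EGA4.tildeOf A M
  have hF : Coh.IsCoh F := QCohBase.isCoh_tilde (R := CommRingCat.of A) (ModuleCat.of A M)
  haveI := hF.1
  haveI := isQuasicoherent_H0 (X := X) Z F
  refine ⟨inferInstance, isFiniteType_of_finite _ fun x => ⟨⊤, isAffineOpen_top _, trivial, ?_⟩⟩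
  haveI := isNoetherianRing_sections (isAffineOpen_top X)
  refine finite_sections (X := X) Z F (isAffineOpen_top X) hF hZ fun P _ hP => ?_
  let e : A →+* Γ(X, ⊤) := (topEquiv A : A →+* _)
  let p := P.comap e
  haveI : p.IsPrime := Ideal.IsPrime.comap _
  obtain ⟨-, z, hz⟩ := isAssociatedPrime_iff.1 hP
  have hp : p ∈ associatedPrimes A M := by
    let i := (tilde.isoTop (ModuleCat.of (CommRingCat.of A) M)).toLinearEquiv
    refine isAssociatedPrime_iff.2 ⟨inferInstance, i.symm z, ?_⟩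
    ext a
    rw [Ideal.mem_comap, hz, Submodule.mem_colon_singleton, Submodule.mem_colon_singleton, Submodule.mem_bot,
      Submodule.mem_bot, ← map_eq_zero_iff i i.injective, map_smul, i.apply_symm_apply]
    constructor <;> intro h <;> refine Eq.trans ?_ h
    · exact (Scheme.Modules.smul_Spec_def (M := F) (U := ⊤) a z).trans
        (congrArg (fun t : Γ(X, ⊤) => t • z) (by
          rw [show (TopologicalSpace.Opens.leTop (⊤ : X.Opens)).op = 𝟙 _ from rfl, X.presheaf.map_id]; rfl))
    · exact ((Scheme.Modules.smul_Spec_def (M := F) (U := ⊤) a z).trans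
        (congrArg (fun t : Γ(X, ⊤) => t • z) (by
          rw [show (TopologicalSpace.Opens.leTop (⊤ : X.Opens)).op = 𝟙 _ from rfl, X.presheaf.map_id]; rfl))).symm
  by_cases hpZ : (⟨p, inferInstance⟩ : PrimeSpectrum A) ∈ Z
  · refine Or.inl fun Q hle => ?_
    obtain ⟨y, hy, hyQ⟩ := exists_point (isAffineOpen_top X) Q.asIdeal
    refine ⟨y, hy, hZ ?_ hpZ, hyQ⟩
    refine (PrimeSpectrum.le_iff_specializes (⟨p, inferInstance⟩ : PrimeSpectrum A) y).1 ?_
    show p ≤ y.asIdeal
    rw [← comap_primeIdealOf_top A y]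
    exact Ideal.comap_mono (hle.trans hyQ.ge)
  have hmap : p.map e = P := Ideal.map_comap_of_surjective e (topEquiv A).surjective P
  refine Or.inr ⟨?_, ?_, ?_⟩
  · rintro ⟨y, hyt, hyZ, hy⟩
    have heq : y = (⟨p, inferInstance⟩ : PrimeSpectrum A) := PrimeSpectrum.ext (by
      show y.asIdeal = P.comap e
      rw [← comap_primeIdealOf_top A y]
      exact congrArg (Ideal.comap e) hy)
    exact hpZ (heq ▸ hyZ)
  · let φ : A ⧸ p →+* Γ(X, ⊤) ⧸ P := Ideal.quotientMap P e le_rfl
    letI : Algebra (A ⧸ p) (Γ(X, ⊤) ⧸ P) := φ.toAlgebra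
    haveI : FaithfulSMul (A ⧸ p) (Γ(X, ⊤) ⧸ P) :=
      (faithfulSMul_iff_algebraMap_injective _ _).2 (Ideal.quotientMap_injective' le_rfl)
    haveI : Module.Finite (A ⧸ p) (Γ(X, ⊤) ⧸ P) := Module.Finite.of_surjective (Algebra.linearMap _ _)
      (Ideal.quotientMap_surjective (H := le_rfl) (topEquiv A).surjective)
    exact (S2665.result _ (hq p hp) (Γ(X, ⊤) ⧸ P)).1
  · rintro Q ⟨y, hyt, hyZ, hy⟩ hle
    have hc : Q.asIdeal.comap e = y.asIdeal := by rw [← hy]; exact comap_primeIdealOf_top A y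
    have h2 := hht ⟨p, inferInstance⟩ hp hpZ y hyZ (hc ▸ Ideal.comap_mono hle)
    let E : A ⧸ p ≃+* Γ(X, ⊤) ⧸ P := Ideal.quotientEquiv p P (topEquiv A) hmap.symm
    have hQ : y.asIdeal.map e = Q.asIdeal := by
      rw [← hc, Ideal.map_comap_of_surjective e (topEquiv A).surjective]
    have hcomp : (E : A ⧸ p →+* Γ(X, ⊤) ⧸ P).comp (Ideal.Quotient.mk p) = (Ideal.Quotient.mk P).comp e :=
      RingHom.ext fun a => Ideal.quotientEquiv_mk p P (topEquiv A) hmap.symm a
    have hEm : (y.asIdeal.map (Ideal.Quotient.mk p)).map (E : A ⧸ p →+* Γ(X, ⊤) ⧸ P) =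
        Q.asIdeal.map (Ideal.Quotient.mk P) := by
      rw [Ideal.map_map, hcomp, ← Ideal.map_map, hQ]
    refine h2.trans_eq ?_
    rw [← hEm]
    exact (RingEquiv.height_map E _).symm

end Groth.Agent.ZClosLib
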