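import Groth.Agent.ZClosLib.HullAffine
import Groth.Agent.ZClosLib.Points
import Groth.Prelude.Def_DerSch

/-!
# Coherence of the closure forces finiteness of the hull
-/

set_option autoImplicit false
set_option linter.style.haveILetI false

noncomputable section

universe u

open CategoryTheory CategoryTheory.Limits AlgebraicGeometry TopologicalSpace Opposite

namespace Groth.Agent.ZClosLib

theorem heightOneHullFinite_of_isCoh {R : CommRingCat.{u}} [IsNoetherianRing R] (q : Ideal R) [q.IsPrime]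
    (Z : Set (PrimeSpectrum R))
    (hdef : Z = {y : PrimeSpectrum R | q ≤ y.asIdeal ∧ (2 : ℕ∞) ≤ (y.asIdeal.map (Ideal.Quotient.mk q)).height})
    (hZ : StableUnderSpecialization Z)
    (hH : Coh.IsCoh ((ZClos.H0 (X := Spec R) Z).obj (tilde (ModuleCat.of R (R ⧸ q))))) :
    EGA4.HeightOneHullFinite (R ⧸ q) := by
  let B := R ⧸ q
  rw [Groth.Agent.LeadFCat.heightOneHullFinite_iff]
  let Hl := Groth.Agent.LeadFCat.hull B
  suffices Module.Finite R Hl from Module.Finite.of_restrictScalars_finite R B Hl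
  haveI : IsNoetherianRing R := ‹_›
  haveI : IsLocallyNoetherian (Spec R) := inferInstance
  let MB : ModuleCat.{u} R := ModuleCat.of R B
  let MH : ModuleCat.{u} R := ModuleCat.of R Hl
  let F : (Spec R).Modules := tilde MB
  let F' : (Spec R).Modules := tilde MH
  haveI : F.IsQuasicoherent := inferInstanceAs (tilde MB).IsQuasicoherent
  haveI : F'.IsQuasicoherent := inferInstanceAs (tilde MH).IsQuasicoherent
  let ι : MB ⟶ MH := ModuleCat.ofHom ((Algebra.linearMap B Hl).restrictScalars R)
  have hι : Function.Injective ι := fun a b e => IsFractionRing.injective B (FractionRing B) (congrArg Subtype.val e)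
  let f : F ⟶ F' := tilde.map ι
  haveI : Mono f := by
    haveI : Mono ι := (ModuleCat.mono_iff_injective ι).2 hι
    exact Groth.Agent.QCohBase.mono_tilde_map ι
  let H := (ZClos.H0 (X := Spec R) Z).obj F
  let H' := (ZClos.H0 (X := Spec R) Z).obj F'
  let u : F ⟶ H' := f ≫ ZClos.rhoApp (X := Spec R) Z F'
  let hclosed := Groth.Agent.ZClosLib.isZClosed_H0 (X := Spec R) Z F'
  obtain ⟨v, hv, -⟩ := Groth.Agent.ZClosLib.existsUnique_fac (X := Spec R) Z F H' hclosed u
  let hW := isAffineOpen_top (Spec R)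
  have hnat : ∀ m : MB, f.app ⊤ ((tilde.isoTop MB).hom m) = (tilde.isoTop MH).hom (ι m) := fun m => by
    have := ConcreteCategory.congr_hom (tilde.toOpen_map_app ι (⊤ : (Spec R).Opens)) m
    exact this
  have hsmul : ∀ (N : (Spec R).Modules) (a : R) (t : Γ(N, ⊤)),
      (a • t : Γ(N, ⊤)) = Groth.Agent.ZClosLib.topEquiv R a • t := fun N a t =>
    (Scheme.Modules.smul_Spec_def (M := N) (U := ⊤) a t).trans (congrArg (fun r : Γ((Spec R), ⊤) => r • t) (by
      rw [show (TopologicalSpace.Opens.leTop (⊤ : (Spec R).Opens)).op = 𝟙 _ from rfl, (Spec R).presheaf.map_id]; rfl))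
  have hunitg : ∀ (y : (Spec R)) (a : R), a ∉ y.asIdeal →
      IsUnit ((Spec R).presheaf.germ ⊤ y trivial (Groth.Agent.ZClosLib.topEquiv R a)) := fun y a ha => by
    refine (Groth.Agent.AssPts.notMem_prime_iff hW y trivial _).1 fun hh => ha ?_
    rw [← Groth.Agent.ZClosLib.comap_primeIdealOf_top R y]
    exact hh
  have hstalk : ∀ y : (Spec R), y ∉ Z → Function.Surjective
      ((TopCat.Presheaf.stalkFunctor (C := Ab.{u}) y).map f.mapPresheaf) := fun y hy z => by
    obtain ⟨g, m', hg, hgm⟩ := Groth.Agent.AssPts.exists_germ_smul_eq F' hW y trivial z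
    obtain ⟨x, rfl⟩ := (ConcreteCategory.bijective_of_isIso (tilde.isoTop MH).hom).2 m'
    obtain ⟨s, hs, b, hb⟩ : ∃ s : R, s ∉ y.asIdeal ∧ ∃ b : B, s • (show Hl from x) = algebraMap B Hl b := by
      by_cases hqy : q ≤ y.asIdeal
      · let P := y.asIdeal.map (Ideal.Quotient.mk q)
        haveI : P.IsPrime :=
          Ideal.map_isPrime_of_surjective Ideal.Quotient.mk_surjective (by rw [Ideal.mk_ker]; exact hqy)
        have hP : P.height ≤ 1 := by
          have hlt : ¬ (2 : ℕ∞) ≤ P.height := fun h2 => hy (hdef.symm ▸ ⟨hqy, h2⟩)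
          rwa [not_le, show (2 : ℕ∞) = 1 + 1 from rfl, ENat.lt_add_one_iff ENat.one_ne_top] at hlt
        obtain ⟨s, hs, b, hb⟩ : ∃ s : B, s ∉ P ∧ ∃ b : B, algebraMap B (FractionRing B) b =
            algebraMap B (FractionRing B) s * (show Hl from x).1 := by
          rcases hP.eq_or_lt with h1 | h0
          · exact (show Hl from x).2 P h1
          · have hbot : P = ⊥ := Ideal.height_eq_zero_iff_eq_bot.1 (Order.lt_one_iff.1 h0)
            obtain ⟨⟨b, s⟩, hbs⟩ := IsLocalization.surj (nonZeroDivisors B) (show Hl from x).1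
            refine ⟨s.1, by rw [hbot, Ideal.mem_bot]; exact nonZeroDivisors.ne_zero s.2, b, ?_⟩
            rw [← hbs, mul_comm]
        obtain ⟨s, rfl⟩ := Ideal.Quotient.mk_surjective s
        refine ⟨s, fun h => hs (Ideal.mem_map_of_mem _ h), b, Subtype.ext ?_⟩
        show s • (show Hl from x).1 = algebraMap B (FractionRing B) b
        rw [hb, Algebra.smul_def, IsScalarTower.algebraMap_apply R B (FractionRing B)]
        rfl
      · obtain ⟨a, haq, hay⟩ := SetLike.not_le_iff_exists.1 hqy
        refine ⟨a, hay, 0, ?_⟩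
        rw [map_zero]
        refine Subtype.ext ?_
        show a • (show Hl from x).1 = 0
        rw [Algebra.smul_def, IsScalarTower.algebraMap_apply R B (FractionRing B),
          Ideal.Quotient.algebraMap_eq, Ideal.Quotient.eq_zero_iff_mem.2 haq, map_zero, zero_mul]
    obtain ⟨c, hc⟩ := ((hunitg y s hs).mul ((Groth.Agent.AssPts.notMem_prime_iff hW y trivial g).1 hg))
    refine ⟨(↑c⁻¹ : (Spec R).presheaf.stalk y) • F.presheaf.germ ⊤ y trivial ((tilde.isoTop MB).hom b), ?_⟩
    have hlin : ∀ (r : (Spec R).presheaf.stalk y) (w : F.presheaf.stalk y),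
        (TopCat.Presheaf.stalkFunctor (C := Ab.{u}) y).map f.mapPresheaf (r • w) =
          r • (show F'.presheaf.stalk y from
            (TopCat.Presheaf.stalkFunctor (C := Ab.{u}) y).map f.mapPresheaf w) := fun r w =>
      map_smul (((DerSch.stalkFunctor (Spec R) y).map f).hom) r w
    rw [hlin]
    refine Eq.trans (congrArg (fun w : F'.presheaf.stalk y => (↑c⁻¹ : (Spec R).presheaf.stalk y) • w)
      (TopCat.Presheaf.stalkFunctor_map_germ_apply ⊤ y trivial f.mapPresheaf ((tilde.isoTop MB).hom b))) ?_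
    show (↑c⁻¹ : (Spec R).presheaf.stalk y) • F'.presheaf.germ ⊤ y trivial (f.app ⊤ ((tilde.isoTop MB).hom b)) = z
    have hx : (show Γ(F', ⊤) from (tilde.isoTop MH).hom (ι b)) = (show Γ(Spec R, ⊤) from Groth.Agent.ZClosLib.topEquiv R s) •
        (show Γ(F', ⊤) from (tilde.isoTop MH).hom x) := by
      refine Eq.trans ?_ (hsmul F' s _)
      refine (congrArg (tilde.isoTop MH).hom (show ι b = s • x from hb.symm)).trans ?_
      exact map_smul (tilde.isoTop MH).hom.hom s x
    refine (congrArg (fun t : Γ(F', ⊤) => (↑c⁻¹ : (Spec R).presheaf.stalk y) • F'.presheaf.germ ⊤ y trivial t) ((hnat b).trans hx)).trans ?_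
    rw [Groth.Agent.AssPts.germ_smul', ← hgm, smul_smul ((Spec R).presheaf.germ ⊤ y trivial _), ← hc, smul_smul,
      Units.inv_mul, one_smul]
  have hu : ∀ y : (Spec R), y ∉ Z →
      Function.Bijective ((TopCat.Presheaf.stalkFunctor (C := Ab.{u}) y).map u.mapPresheaf) := fun y hy => by
    have h1 : Function.Bijective ((TopCat.Presheaf.stalkFunctor (C := Ab.{u}) y).map f.mapPresheaf) := by
      refine ⟨?_, hstalk y hy⟩
      exact TopCat.Presheaf.stalkFunctor_map_injective_of_app_injective (f := f.mapPresheaf)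
        (fun U => Groth.Agent.ZClosLib.app_injective_of_mono f U) y
    have h2 := Groth.Agent.ZClosLib.isZClosedAt_of_notMem (X := Spec R) Z F' y hy
    have he : u.mapPresheaf = f.mapPresheaf ≫ (ZClos.rhoApp (X := Spec R) Z F').mapPresheaf := rfl
    rw [he, Functor.map_comp]
    refine ⟨fun a b e => h1.1 (h2.1 e), fun z => ?_⟩
    obtain ⟨a, rfl⟩ := h2.2 z
    obtain ⟨b, rfl⟩ := h1.2 a
    exact ⟨b, rfl⟩
  haveI := Groth.Agent.ZClosLib.isIso_fac (X := Spec R) Z F hZ H' hclosed u hu v hv
  let w : F' ⟶ H := ZClos.rhoApp (X := Spec R) Z F' ≫ inv v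
  let φ : MH →ₗ[R] Γ(H, ⊤) :=
    ((moduleSpecΓFunctor (R := R)).map w).hom ∘ₗ (tilde.isoTop MH).hom.hom
  have hφ : Function.Injective φ := by
    rw [injective_iff_map_eq_zero]
    intro x hx
    have h0 : (ZClos.rhoApp (X := Spec R) Z F').app ⊤ ((tilde.isoTop MH).hom x) = 0 := by
      have h := congrArg (v.app ⊤) hx
      rw [map_zero] at h
      refine Eq.trans ?_ h
      show _ = (w ≫ v).app ⊤ ((tilde.isoTop MH).hom x)
      rw [show w ≫ v = ZClos.rhoApp (X := Spec R) Z F' by simp [w]]
    let y₀ : Spec R := (⟨q, inferInstance⟩ : PrimeSpectrum R)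
    have hy₀ : y₀ ∉ Z := fun hh => by
      have h2 := (hdef ▸ hh : y₀ ∈ {y : PrimeSpectrum R | q ≤ y.asIdeal ∧ (2 : ℕ∞) ≤ (y.asIdeal.map (Ideal.Quotient.mk q)).height}).2
      rw [show (y₀ : PrimeSpectrum R).asIdeal = q from rfl, Ideal.map_quotient_self, Ideal.height_bot] at h2
      exact absurd h2 (by norm_num)
    have hg0 : F'.presheaf.germ ⊤ y₀ trivial ((tilde.isoTop MH).hom x) = 0 := by
      refine (Groth.Agent.ZClosLib.isZClosedAt_of_notMem (X := Spec R) Z F' y₀ hy₀).1 ?_
      rw [Groth.Agent.ZClosLib.rhoStalk_germ, h0, map_zero, Groth.Agent.ZClosLib.rhoStalk_zero]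
    obtain ⟨g, hg, hgx⟩ := (Groth.Agent.AssPts.germ_eq_zero_iff F' hW y₀ trivial _).1 hg0
    obtain ⟨a, rfl⟩ := (Groth.Agent.ZClosLib.topEquiv R).surjective g
    have ha : a ∉ q := fun ha => hg (by
      have := (Groth.Agent.ZClosLib.comap_primeIdealOf_top R y₀).ge ha
      exact this)
    rw [← hsmul] at hgx
    replace hgx := (map_smul (tilde.isoTop MH).hom.hom a x).trans hgx
    have hax : a • x = 0 := (ConcreteCategory.bijective_of_isIso (tilde.isoTop MH).hom).1 (hgx.trans (map_zero _).symm)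
    have hax' : a • x.1 = 0 := congrArg Subtype.val hax
    rw [Algebra.smul_def, IsScalarTower.algebraMap_apply R B (FractionRing B), mul_eq_zero,
      map_eq_zero_iff _ (IsFractionRing.injective B (FractionRing B)), Ideal.Quotient.algebraMap_eq,
      Ideal.Quotient.eq_zero_iff_mem] at hax'
    exact Subtype.ext (hax'.resolve_left ha)
  haveI : Module.Finite R Γ(H, ⊤) := by
    obtain ⟨s, hs⟩ := (Groth.Agent.QCohBase.isFiniteType_toFinite hH hW).fg_top
    refine ⟨⟨s, eq_top_iff.2 fun t _ => ?_⟩⟩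
    have ht : t ∈ Submodule.span Γ((Spec R), ⊤) (s : Set Γ(H, ⊤)) := hs ▸ trivial
    induction ht using Submodule.span_induction with
    | mem t ht => exact Submodule.subset_span ht
    | zero => exact Submodule.zero_mem _
    | add a b _ _ ha hb => exact Submodule.add_mem _ (ha trivial) (hb trivial)
    | smul c t _ ht =>
      obtain ⟨a, rfl⟩ := (Groth.Agent.ZClosLib.topEquiv R).surjective c
      rw [← hsmul]
      exact Submodule.smul_mem _ a (ht trivial)
  haveI hfin : Module.Finite R MH := Module.Finite.of_injective φ hφ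
  exact hfin


end Groth.Agent.ZClosLib
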