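import Groth.Agent.LeadFCat.Hull
import Groth.Agent.CAlgMisc.TorsionFree
import Mathlib.RingTheory.Ideal.AssociatedPrime.Basic

/-!
# The module of compatible local families off a closed-under-specialization set of primes, and its finiteness
-/

set_option autoImplicit false
set_option linter.style.haveILetI false

noncomputable section

universe u

namespace Groth.Agent.ZClosHull

variable {A : Type u} [CommRing A] (Z : Set (PrimeSpectrum A))

/-- The primes off `Z`. -/
abbrev Off : Type u := {q : PrimeSpectrum A // q ∉ Z}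

/-- The product of the localisations off `Z`. -/
abbrev Fam (M : Type u) [AddCommGroup M] [Module A M] : Type u :=
  ∀ q : Off Z, LocalizedModule q.1.asIdeal.primeCompl M

variable {Z}

/-- The map to a localisation. -/
abbrev loc (q : Off Z) (M : Type u) [AddCommGroup M] [Module A M] : M →ₗ[A] LocalizedModule q.1.asIdeal.primeCompl M :=
  LocalizedModule.mkLinearMap _ M

section

variable {M N : Type u} [AddCommGroup M] [Module A M] [AddCommGroup N] [Module A N]

theorem smul_cancel {q : Off Z} {s : A} (hs : s ∉ q.1.asIdeal) {a b : LocalizedModule q.1.asIdeal.primeCompl M}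
    (h : s • a = s • b) : a = b :=
  IsLocalizedModule.smul_injective (loc q M) (⟨s, hs⟩ : q.1.asIdeal.primeCompl) h

variable (Z M) in
/-- The compatible families. -/
def K : Submodule A (Fam Z M) where
  carrier := {ξ | ∀ q q' : Off Z, q'.1.asIdeal ≤ q.1.asIdeal →
    ∃ s ∉ q.1.asIdeal, ∃ m : M, s • ξ q = loc q M m ∧ s • ξ q' = loc q' M m}
  zero_mem' q q' _ := ⟨1, q.1.isPrime.one_notMem, 0, by simp, by simp⟩
  add_mem' {a b} ha hb q q' h := by
    obtain ⟨s, hs, m, h1, h2⟩ := ha q q' h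
    obtain ⟨t, ht, n, h3, h4⟩ := hb q q' h
    refine ⟨s * t, q.1.isPrime.mul_notMem hs ht, t • m + s • n, ?_, ?_⟩
    · rw [Pi.add_apply, smul_add, map_add, map_smul, map_smul, ← h1, ← h3, smul_smul, smul_smul, mul_comm t s]
    · rw [Pi.add_apply, smul_add, map_add, map_smul, map_smul, ← h2, ← h4, smul_smul, smul_smul, mul_comm t s]
  smul_mem' c a ha q q' h := by
    obtain ⟨s, hs, m, h1, h2⟩ := ha q q' h
    refine ⟨s, hs, c • m, ?_, ?_⟩
    · rw [Pi.smul_apply, map_smul, ← h1, smul_comm]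
    · rw [Pi.smul_apply, map_smul, ← h2, smul_comm]

/-- A component of a map. -/
abbrev comp (f : M →ₗ[A] N) (q : Off Z) :
    LocalizedModule q.1.asIdeal.primeCompl M →ₗ[A] LocalizedModule q.1.asIdeal.primeCompl N :=
  IsLocalizedModule.map q.1.asIdeal.primeCompl (loc q M) (loc q N) f

theorem comp_loc (f : M →ₗ[A] N) (q : Off Z) (m : M) : comp f q (loc q M m) = loc q N (f m) :=
  IsLocalizedModule.map_apply _ _ _ _ _

/-- The induced map on compatible families. -/
def mapK (f : M →ₗ[A] N) : K Z M →ₗ[A] K Z N where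
  toFun ξ := ⟨fun q => comp f q (ξ.1 q), fun q q' h => by
    obtain ⟨s, hs, m, h1, h2⟩ := ξ.2 q q' h
    exact ⟨s, hs, f m, by rw [← map_smul, h1, comp_loc], by rw [← map_smul, h2, comp_loc]⟩⟩
  map_add' a b := Subtype.ext (funext fun q => map_add _ _ _)
  map_smul' c a := Subtype.ext (funext fun q => map_smul (comp f q) c (a.1 q))

theorem comp_injective {f : M →ₗ[A] N} (hf : Function.Injective f) (q : Off Z) : Function.Injective (comp f q) :=
  IsLocalizedModule.map_injective q.1.asIdeal.primeCompl (loc q M) (loc q N) f hf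

theorem mapK_injective {f : M →ₗ[A] N} (hf : Function.Injective f) : Function.Injective (mapK (Z := Z) f) :=
  fun _ _ h => Subtype.ext (funext fun q => comp_injective hf q (congrFun (congrArg Subtype.val h) q))

theorem range_mapK_eq_ker {M' : Type u} [AddCommGroup M'] [Module A M'] {f : M' →ₗ[A] M} {g : M →ₗ[A] N}
    (hf : Function.Injective f) (hfg : Function.Exact f g) :
    LinearMap.range (mapK (Z := Z) f) = LinearMap.ker (mapK (Z := Z) g) := by
  refine le_antisymm ?_ fun ξ hξ => ?_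
  · rintro _ ⟨η, rfl⟩
    refine Subtype.ext (funext fun q => ?_)
    obtain ⟨s, hs, m, h1, -⟩ := η.2 q q le_rfl
    refine smul_cancel hs ?_
    change s • comp g q (comp f q (η.1 q)) = s • 0
    rw [← map_smul, ← map_smul, h1, comp_loc, comp_loc, hfg.apply_apply_eq_zero, map_zero, smul_zero]
  · have hz : ∀ q, comp g q (ξ.1 q) = 0 := fun q => congrFun (congrArg Subtype.val hξ) q
    have key : ∀ (q : Off Z) (s : A) (m : M), s • ξ.1 q = loc q M m →
        ∃ t ∉ q.1.asIdeal, ∃ m', f m' = t • m := fun q s m h => by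
      have h0 : loc q N (g m) = 0 := by rw [← comp_loc g, ← h, map_smul, hz, smul_zero]
      obtain ⟨t, ht⟩ := (IsLocalizedModule.eq_zero_iff q.1.asIdeal.primeCompl (loc q N)).1 h0
      obtain ⟨m', hm'⟩ := (hfg (t.1 • m)).1 (by rw [map_smul]; exact ht)
      exact ⟨t.1, t.2, m', hm'⟩
    have hex : ∀ q : Off Z, ∃ η, comp f q η = ξ.1 q := fun q => by
      obtain ⟨s, hs, m, h1, -⟩ := ξ.2 q q le_rfl
      obtain ⟨t, ht, m', hm'⟩ := key q s m h1
      let u : q.1.asIdeal.primeCompl := ⟨t * s, q.1.isPrime.mul_notMem ht hs⟩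
      refine ⟨LocalizedModule.mk m' u, smul_cancel u.2 ?_⟩
      rw [← map_smul, show (u.1 : A) • LocalizedModule.mk m' u = loc q M' m' from by
        rw [LocalizedModule.smul'_mk, LocalizedModule.mkLinearMap_apply]
        exact LocalizedModule.mk_cancel u m', comp_loc, hm', map_smul, ← h1, smul_smul]
    choose η hη using hex
    refine ⟨⟨η, fun q q' h => ?_⟩, Subtype.ext (funext hη)⟩
    obtain ⟨s, hs, m, h1, h2⟩ := ξ.2 q q' h
    obtain ⟨t, ht, m', hm'⟩ := key q s m h1
    refine ⟨t * s, q.1.isPrime.mul_notMem ht hs, m', comp_injective hf q ?_, comp_injective hf q' ?_⟩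
    · rw [map_smul, hη, comp_loc, hm', map_smul, ← h1, smul_smul]
    · rw [map_smul, hη, comp_loc, hm', map_smul, ← h2, smul_smul]

variable [IsNoetherianRing A]

theorem finite_of_mapK_injective {f : M →ₗ[A] N} (hf : Function.Injective f) (h : Module.Finite A (K Z N)) :
    Module.Finite A (K Z M) :=
  Module.Finite.of_injective (mapK f) (mapK_injective hf)

theorem finite_of_exact {M' : Type u} [AddCommGroup M'] [Module A M'] {f : M' →ₗ[A] M} {g : M →ₗ[A] N}
    (hf : Function.Injective f) (hfg : Function.Exact f g) (h₁ : Module.Finite A (K Z M'))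
    (h₂ : Module.Finite A (K Z N)) : Module.Finite A (K Z M) :=
  haveI : IsNoetherian A (K Z M) := isNoetherian_of_range_eq_ker (mapK f) (mapK g) (range_mapK_eq_ker hf hfg)
  inferInstance

theorem finite_pi (n : ℕ) (h : Module.Finite A (K Z M)) : Module.Finite A (K Z (Fin n → M)) := by
  refine Module.Finite.of_injective (LinearMap.pi fun i => mapK (LinearMap.proj i : (Fin n → M) →ₗ[A] M)) ?_
  rw [injective_iff_map_eq_zero]
  intro ξ hξ
  refine Subtype.ext (funext fun q => ?_)
  obtain ⟨s, hs, m, h1, -⟩ := ξ.2 q q le_rfl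
  have hi : ∀ i, ∃ t : q.1.asIdeal.primeCompl, t.1 • m i = 0 := fun i => by
    have h0 : comp (LinearMap.proj i : (Fin n → M) →ₗ[A] M) q (ξ.1 q) = 0 :=
      congrFun (congrArg Subtype.val (congrFun hξ i)) q
    refine (IsLocalizedModule.eq_zero_iff q.1.asIdeal.primeCompl (loc q M)).1 ?_
    show loc q M ((LinearMap.proj i : (Fin n → M) →ₗ[A] M) m) = 0
    rw [← comp_loc, ← h1, map_smul, h0, smul_zero]
  choose t ht using hi
  refine smul_cancel hs ?_
  rw [h1]
  refine Eq.trans ((IsLocalizedModule.eq_zero_iff q.1.asIdeal.primeCompl (loc q (Fin n → M))).2 ⟨∏ i, t i, ?_⟩) (smul_zero _).symm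
  funext i
  obtain ⟨c, hc⟩ := Finset.dvd_prod_of_mem t (Finset.mem_univ i)
  show ((∏ i, t i).1 • m i) = 0
  rw [hc, mul_comm, Submonoid.coe_mul, mul_smul, ht, smul_zero]

end

/-- The conditions on a prime which make its cyclic module have finitely many compatible families. -/
def Good (Z : Set (PrimeSpectrum A)) (p : Ideal A) [p.IsPrime] : Prop :=
  (∀ q : PrimeSpectrum A, p ≤ q.asIdeal → q ∈ Z) ∨
  (⟨p, inferInstance⟩ : PrimeSpectrum A) ∉ Z ∧ EGA4.HeightOneHullFinite (A ⧸ p) ∧
    ∀ y ∈ Z, p ≤ y.asIdeal → (2 : ℕ∞) ≤ (y.asIdeal.map (Ideal.Quotient.mk p)).height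

section Quot

variable (p : Ideal A) [p.IsPrime] (hp : (⟨p, inferInstance⟩ : PrimeSpectrum A) ∉ Z)

/-- The map to the fraction field of `A ⧸ p`. -/
def toFrac : LocalizedModule (⟨⟨p, inferInstance⟩, hp⟩ : Off Z).1.asIdeal.primeCompl (A ⧸ p) →ₗ[A] FractionRing (A ⧸ p) :=
  IsLocalizedModule.lift (⟨⟨p, inferInstance⟩, hp⟩ : Off Z).1.asIdeal.primeCompl
    (LocalizedModule.mkLinearMap (⟨⟨p, inferInstance⟩, hp⟩ : Off Z).1.asIdeal.primeCompl (A ⧸ p))
    ((Algebra.linearMap (A ⧸ p) (FractionRing (A ⧸ p))).restrictScalars A) fun s => by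
      have hu : IsUnit (algebraMap A (FractionRing (A ⧸ p)) s.1) := by
        rw [IsScalarTower.algebraMap_apply A (A ⧸ p) (FractionRing (A ⧸ p))]
        refine isUnit_iff_ne_zero.2 fun h => (show s.1 ∉ p from s.2) (Ideal.Quotient.eq_zero_iff_mem.1 ?_)
        exact (map_eq_zero_iff _ (IsFractionRing.injective (A ⧸ p) (FractionRing (A ⧸ p)))).1 h
      refine (Module.End.isUnit_iff _).2 ⟨fun a b h => ?_, fun b => ⟨hu.unit.inv * b, ?_⟩⟩
      · have h' : s.1 • a = s.1 • b := h
        rw [Algebra.smul_def, Algebra.smul_def] at h'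
        exact hu.mul_left_cancel h'
      · show s.1 • (hu.unit.inv * b) = b
        rw [Algebra.smul_def, ← mul_assoc]
        exact (congrArg (· * b) hu.mul_val_inv).trans (one_mul b)

theorem toFrac_loc (b : A ⧸ p) :
    toFrac p hp (LocalizedModule.mkLinearMap _ _ b) = algebraMap (A ⧸ p) (FractionRing (A ⧸ p)) b :=
  by unfold toFrac; rw [IsLocalizedModule.lift_apply]; rfl

/-- The value at the generic point. -/
def genVal : K Z (A ⧸ p) →ₗ[A] FractionRing (A ⧸ p) :=
  toFrac p hp ∘ₗ (LinearMap.proj (⟨⟨p, inferInstance⟩, hp⟩ : Off Z)) ∘ₗ (K Z (A ⧸ p)).subtype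

theorem genVal_injective : Function.Injective (genVal p hp) := by
  rw [injective_iff_map_eq_zero]
  intro ξ hξ
  let qp : Off Z := ⟨⟨p, inferInstance⟩, hp⟩
  have hgen : ∀ (s : A) (m : A ⧸ p), s • ξ.1 qp = loc qp _ m → m = 0 := fun s m h => by
    refine IsFractionRing.injective (A ⧸ p) (FractionRing (A ⧸ p)) ?_
    rw [map_zero, ← toFrac_loc p hp]
    change toFrac p hp (loc qp _ m) = 0
    rw [← h, map_smul]
    exact (congrArg (s • ·) hξ).trans (smul_zero s)
  refine Subtype.ext (funext fun q => ?_)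
  by_cases hle : p ≤ q.1.asIdeal
  · obtain ⟨s, hs, m, h1, h2⟩ := ξ.2 q qp hle
    refine smul_cancel hs ?_
    rw [h1, hgen s m h2, map_zero]
    exact (smul_zero _).symm
  · obtain ⟨a, hap, haq⟩ := SetLike.not_le_iff_exists.1 hle
    obtain ⟨s, hs, m, h1, -⟩ := ξ.2 q q le_rfl
    refine smul_cancel hs ?_
    rw [h1]
    refine Eq.trans ((IsLocalizedModule.eq_zero_iff q.1.asIdeal.primeCompl (loc q (A ⧸ p))).2
      ⟨⟨a, haq⟩, ?_⟩) (smul_zero s).symm
    show a • m = 0
    rw [Algebra.smul_def, Ideal.Quotient.algebraMap_eq, Ideal.Quotient.eq_zero_iff_mem.2 hap, zero_mul]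

theorem genVal_mem_hull (hht : ∀ y ∈ Z, p ≤ y.asIdeal → (2 : ℕ∞) ≤ (y.asIdeal.map (Ideal.Quotient.mk p)).height)
    (ξ : K Z (A ⧸ p)) : genVal p hp ξ ∈ LeadFCat.hull (A ⧸ p) := by
  intro P _ hP
  let q : PrimeSpectrum A := ⟨P.comap (Ideal.Quotient.mk p), Ideal.IsPrime.comap _⟩
  have hpq : p ≤ q.asIdeal := fun a ha => by
    show Ideal.Quotient.mk p a ∈ P
    rw [Ideal.Quotient.eq_zero_iff_mem.2 ha]; exact P.zero_mem
  have hq : q ∉ Z := fun h => by
    have h2 := hht q h hpq
    rw [show q.asIdeal.map (Ideal.Quotient.mk p) = P from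
      Ideal.map_comap_of_surjective _ Ideal.Quotient.mk_surjective P, hP] at h2
    exact absurd h2 (by norm_num)
  obtain ⟨s, hs, m, -, h2⟩ := ξ.2 ⟨q, hq⟩ ⟨⟨p, inferInstance⟩, hp⟩ hpq
  refine ⟨Ideal.Quotient.mk p s, hs, m, ?_⟩
  rw [← toFrac_loc p hp m]
  change toFrac p hp (loc ⟨⟨p, inferInstance⟩, hp⟩ _ m) = _
  rw [← h2, map_smul, Algebra.smul_def, IsScalarTower.algebraMap_apply A (A ⧸ p) (FractionRing (A ⧸ p)),
    Ideal.Quotient.algebraMap_eq]
  rfl

theorem finite_quot [IsNoetherianRing A] (h : (⟨p, inferInstance⟩ : PrimeSpectrum A) ∉ Z ∧ EGA4.HeightOneHullFinite (A ⧸ p) ∧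
    ∀ y ∈ Z, p ≤ y.asIdeal → (2 : ℕ∞) ≤ (y.asIdeal.map (Ideal.Quotient.mk p)).height) : Module.Finite A (K Z (A ⧸ p)) := by
  haveI : Module.Finite (A ⧸ p) (LeadFCat.hull (A ⧸ p)) := LeadFCat.heightOneHullFinite_iff.1 h.2.1
  haveI : Module.Finite A (LeadFCat.hull (A ⧸ p)) := Module.Finite.trans (A ⧸ p) _
  let φ : K Z (A ⧸ p) →ₗ[A] LeadFCat.hull (A ⧸ p) :=
    { toFun := fun ξ => ⟨genVal p h.1 ξ, genVal_mem_hull p h.1 h.2.2 ξ⟩
      map_add' := fun a b => Subtype.ext (map_add _ a b)
      map_smul' := fun c a => Subtype.ext (map_smul (genVal p h.1) c a) }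
  exact Module.Finite.of_injective φ fun a b e => genVal_injective p h.1 (congrArg Subtype.val e)

end Quot

variable [IsNoetherianRing A] {M : Type u} [AddCommGroup M] [Module A M] [Module.Finite A M]

/-- Finitely many compatible families for a module with good associated primes. -/
theorem finite_K (h : ∀ (p : Ideal A) [p.IsPrime], p ∈ associatedPrimes A M → Good Z p) :
    Module.Finite A (K Z M) := by
  suffices ∀ N : Submodule A M, associatedPrimes A (M ⧸ N) ⊆ associatedPrimes A M →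
      Module.Finite A (K Z (M ⧸ N)) from by
    exact finite_of_mapK_injective (f := ((⊥ : Submodule A M).quotEquivOfEqBot rfl).symm.toLinearMap)
      (LinearEquiv.injective _) (this ⊥ (associatedPrimes.subset_of_injective (LinearEquiv.injective
        ((⊥ : Submodule A M).quotEquivOfEqBot rfl))))
  intro N
  induction N using WellFoundedGT.induction with
  | _ N ih =>
  intro hN
  classical
  rcases subsingleton_or_nontrivial (M ⧸ N) with hs | hs
  · haveI : Subsingleton (K Z (M ⧸ N)) := ⟨fun a b => Subtype.ext (Subsingleton.elim _ _)⟩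
    infer_instance
  obtain ⟨p, hpA, hmax⟩ := (associatedPrimes.finite A (M ⧸ N)).exists_maximalFor id _
    (associatedPrimes.nonempty A (M ⧸ N))
  obtain ⟨hpr, x, hx⟩ := isAssociatedPrime_iff.1 hpA
  haveI := hpr
  obtain ⟨k, a, ha⟩ := Submodule.fg_iff_exists_fin_generating_family.1 (IsNoetherian.noetherian p)
  let M₁ := Submodule.torsionBySet A (M ⧸ N) (p : Set A)
  have hM₁ : ∀ z, z ∈ M₁ ↔ ∀ i, a i • z = 0 := fun z => by
    refine ⟨fun hz i => (Submodule.mem_torsionBySet_iff _ _).1 hz ⟨a i, ?_⟩, fun hz => ?_⟩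
    · rw [← ha]; exact Submodule.subset_span ⟨i, rfl⟩
    · refine (Submodule.mem_torsionBySet_iff _ _).2 fun ⟨b, hb⟩ => ?_
      show b • z = 0
      have hle : p ≤ LinearMap.ker (LinearMap.toSpanSingleton A (M ⧸ N) z) := by
        rw [← ha]
        exact Submodule.span_le.2 fun c ⟨i, hi⟩ => hi ▸ hz i
      exact hle hb
  have hxM : x ∈ M₁ := by
    refine (Submodule.mem_torsionBySet_iff _ _).2 fun ⟨b, hb⟩ => ?_
    rw [SetLike.mem_coe, hx, Submodule.mem_colon_singleton, Submodule.mem_bot] at hb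
    exact hb
  have hx0 : x ≠ 0 := fun h0 => hpr.ne_top (by
    rw [hx, h0, Ideal.eq_top_iff_one]
    simp)
  let N' := M₁.comap N.mkQ
  have hlt : N < N' := by
    refine lt_of_le_not_ge (fun n hn => ?_) fun hle => ?_
    · show N.mkQ n ∈ M₁
      rw [Submodule.mkQ_apply, (Submodule.Quotient.mk_eq_zero N).2 hn]
      exact M₁.zero_mem
    · obtain ⟨y, rfl⟩ := N.mkQ_surjective x
      exact hx0 ((Submodule.Quotient.mk_eq_zero N).2 (hle hxM))
  let g : M ⧸ N →ₗ[A] M ⧸ N' := N.liftQ N'.mkQ (by rw [Submodule.ker_mkQ]; exact hlt.le)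
  have hex : Function.Exact M₁.subtype g := fun z => by
    obtain ⟨y, rfl⟩ := N.mkQ_surjective z
    rw [show g (N.mkQ y) = N'.mkQ y from rfl, Submodule.mkQ_apply N' y, Submodule.Quotient.mk_eq_zero]
    exact ⟨fun hy => ⟨⟨_, hy⟩, rfl⟩, fun ⟨w, hw⟩ => show N.mkQ y ∈ M₁ from hw ▸ w.2⟩
  have hass : associatedPrimes A (M ⧸ N') ⊆ associatedPrimes A (M ⧸ N) := fun P hP => by
    obtain ⟨hPp, z, hz⟩ := isAssociatedPrime_iff.1 hP
    obtain ⟨y, rfl⟩ := N'.mkQ_surjective z
    have hP' : ∀ b : A, b ∈ P ↔ ∀ i, b • (a i • N.mkQ y) = 0 := fun b => by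
      rw [hz, Submodule.mem_colon_singleton, Submodule.mem_bot, ← map_smul, Submodule.mkQ_apply,
        Submodule.Quotient.mk_eq_zero]
      show N.mkQ (b • y) ∈ M₁ ↔ _
      rw [hM₁]
      exact forall_congr' fun i => by rw [map_smul, smul_comm]
    have hinf : (Finset.univ.inf fun i => (⊥ : Submodule A (M ⧸ N)).colon {a i • N.mkQ y}) ≤ P := fun b hb => by
      refine (hP' b).2 fun i => ?_
      have := (Submodule.mem_finsetInf).1 hb i (Finset.mem_univ i)
      rwa [Submodule.mem_colon_singleton, Submodule.mem_bot] at this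
    obtain ⟨i, -, hi⟩ := (hPp.inf_le').1 hinf
    refine isAssociatedPrime_iff.2 ⟨hPp, a i • N.mkQ y, le_antisymm (fun b hb => ?_) hi⟩
    rw [Submodule.mem_colon_singleton, Submodule.mem_bot]
    exact (hP' b).1 hb i
  refine finite_of_exact M₁.injective_subtype hex ?_ (ih N' hlt (hass.trans hN))
  let B := A ⧸ p
  haveI ht : Module.IsTorsionBySet A M₁ (p : Set A) := fun {z} b =>
    Subtype.ext ((Submodule.mem_torsionBySet_iff _ _).1 z.2 b)
  letI : Module B M₁ := ht.module
  haveI : IsScalarTower A B M₁ := ht.isScalarTower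
  haveI : Module.Finite B M₁ := Module.Finite.of_restrictScalars_finite A B _
  haveI : Module.IsTorsionFree B M₁ := by
    refine Module.isTorsionFree_iff_smul_eq_zero.2 fun b z hbz => ?_
    obtain ⟨b, rfl⟩ := Ideal.Quotient.mk_surjective b
    by_contra hne
    push Not at hne
    have hb : b ∉ p := fun hb => hne.1 (Ideal.Quotient.eq_zero_iff_mem.2 hb)
    have hz : z.1 ≠ 0 := fun h0 => hne.2 (Subtype.ext h0)
    obtain ⟨P, hP, hPz⟩ := exists_le_isAssociatedPrime_of_isNoetherianRing A z.1 hz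
    have hbP : b ∈ P := hPz (by
      rw [Submodule.mem_colon_singleton, Submodule.mem_bot]
      exact congrArg Subtype.val hbz)
    have hpP : p ≤ P := fun c hc => hPz (by
      rw [Submodule.mem_colon_singleton, Submodule.mem_bot]
      exact (Submodule.mem_torsionBySet_iff _ _).1 z.2 ⟨c, hc⟩)
    exact hb (hmax hP hpP hbP)
  obtain ⟨r, e, he⟩ := CAlgMisc.exists_injective_of_isTorsionFree B M₁
  rcases h p (hN hpA) with hall | hgood
  · haveI : Subsingleton (K Z M₁) := subsingleton_of_forall_eq 0 fun ξ => Subtype.ext (funext fun q => by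
      obtain ⟨c, hcp, hcq⟩ := SetLike.not_le_iff_exists.1 fun hle => q.2 (hall q.1 hle)
      obtain ⟨s, hs, m, h1, -⟩ := ξ.2 q q le_rfl
      refine smul_cancel hs ?_
      rw [h1]
      refine Eq.trans ((IsLocalizedModule.eq_zero_iff q.1.asIdeal.primeCompl (loc q M₁)).2 ⟨⟨c, hcq⟩, ?_⟩)
        (smul_zero s).symm
      exact Subtype.ext ((Submodule.mem_torsionBySet_iff _ _).1 m.2 ⟨c, hcp⟩))
    infer_instance
  exact finite_of_mapK_injective (f := e.restrictScalars A) he (finite_pi r (finite_quot p hgood))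

end Groth.Agent.ZClosHull
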